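import Mathlib
import Groth.Prelude.Def_AlgEqCyc
import Groth.Agent.Lib.Helper1.HProj2

/-!
# The diagonal family on a curve: `[P₁] - [P₂]` is elementary algebraically trivial (S15438)
(helper2)
-/

set_option autoImplicit false
set_option backward.isDefEq.respectTransparency.types false
set_option synthInstance.maxHeartbeats 400000
set_option maxHeartbeats 4000000
set_option linter.style.haveILetI false
set_option linter.unusedSectionVars false
set_option linter.unusedVariables false
set_option linter.unusedSimpArgs false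
set_option linter.unnecessarySimpa false

universe u
open CategoryTheory CategoryTheory.Limits AlgebraicGeometry TopologicalSpace IsLocalRing

namespace Groth.Agent.Helper2.AlgEqDiag

section Alg

/-- the length computation: the double quotient is the residue field -/
theorem length_doubleQuot_eq_one' {R A : Type u} [CommRing R] [IsLocalRing R] [CommRing A]
    [IsLocalRing A] (ψ : A →+* R) (𝔭 : Ideal R) (h𝔭 : 𝔭 ≠ ⊤)
    (H : ∀ r ∈ maximalIdeal R, ∃ s ∈ maximalIdeal A, r - ψ s ∈ 𝔭)
    (L : ∀ s ∈ maximalIdeal A, ψ s ∈ maximalIdeal R)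
    (J : Ideal (R ⧸ 𝔭)) (hJ : J = (maximalIdeal A).map ((Ideal.Quotient.mk 𝔭).comp ψ)) :
    Module.length R ((R ⧸ 𝔭) ⧸ J) = 1 := by
  rw [Module.length_eq_one_iff, isSimpleModule_iff_quot_maximal]
  refine ⟨maximalIdeal R, inferInstance, ⟨?_⟩⟩
  let f : R →ₗ[R] ((R ⧸ 𝔭) ⧸ J) := Algebra.linearMap R ((R ⧸ 𝔭) ⧸ J)
  have hfa : ∀ r, f r = Ideal.Quotient.mk J (Ideal.Quotient.mk 𝔭 r) := fun r => rfl
  have hsurj : Function.Surjective f := by
    intro y
    obtain ⟨y', rfl⟩ := Ideal.Quotient.mk_surjective y
    obtain ⟨r, rfl⟩ := Ideal.Quotient.mk_surjective y'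
    exact ⟨r, hfa r⟩
  have hI0 : (maximalIdeal A).map ψ ≤ maximalIdeal R :=
    Ideal.map_le_iff_le_comap.2 (fun s hs => L s hs)
  have h𝔭le : 𝔭 ≤ maximalIdeal R := IsLocalRing.le_maximalIdeal h𝔭
  have hker : LinearMap.ker f = maximalIdeal R := by
    symm
    apply (IsLocalRing.maximalIdeal.isMaximal R).eq_of_le
    · intro htop
      have h1 : (1 : R) ∈ LinearMap.ker f := htop ▸ Submodule.mem_top
      rw [LinearMap.mem_ker, hfa, Ideal.Quotient.eq_zero_iff_mem, hJ, ← Ideal.map_map,
        Ideal.mem_map_iff_of_surjective _ Ideal.Quotient.mk_surjective] at h1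
      obtain ⟨a, ha, ha1⟩ := h1
      have h2 : a - 1 ∈ 𝔭 := Ideal.Quotient.eq.1 ha1
      have h3 : (1 : R) ∈ maximalIdeal R := by
        have : (1 : R) = a - (a - 1) := by ring
        rw [this]
        exact Ideal.sub_mem _ (hI0 ha) (h𝔭le h2)
      exact (Ideal.ne_top_iff_one _).1 (IsLocalRing.maximalIdeal.isMaximal R).ne_top h3
    · intro r hr
      obtain ⟨s, hs, hrs⟩ := H r hr
      rw [LinearMap.mem_ker, hfa, Ideal.Quotient.eq_zero_iff_mem]
      have h1 : Ideal.Quotient.mk 𝔭 r = Ideal.Quotient.mk 𝔭 (ψ s) := Ideal.Quotient.eq.2 hrs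
      rw [h1, hJ]
      exact Ideal.mem_map_of_mem ((Ideal.Quotient.mk 𝔭).comp ψ) hs
  exact (f.quotKerEquivOfSurjective hsurj).symm ≪≫ₗ Submodule.quotEquivOfEq _ _ hker

theorem length_doubleQuot_eq_one {R A : Type u} [CommRing R] [IsLocalRing R] [CommRing A]
    [IsLocalRing A] (ψ : A →+* R) (𝔭 : Ideal R) (h𝔭 : 𝔭 ≠ ⊤)
    (H : ∀ r ∈ maximalIdeal R, ∃ s ∈ maximalIdeal A, r - ψ s ∈ 𝔭)
    (L : ∀ s ∈ maximalIdeal A, ψ s ∈ maximalIdeal R) :
    Module.length R ((R ⧸ 𝔭) ⧸ (maximalIdeal A).map ((Ideal.Quotient.mk 𝔭).comp ψ)) = 1 :=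
  length_doubleQuot_eq_one' ψ 𝔭 h𝔭 H L _ rfl

end Alg

theorem isIso_stalkMap_of_eq_id {X : Scheme.{u}} (f : X ⟶ X) (hf : f = 𝟙 X) (x : X) :
    IsIso (f.stalkMap x) := by
  haveI : IsOpenImmersion f := by
    rw [hf]
    infer_instance
  infer_instance

section Geo

variable {k : Type u} [Field k] {C : Scheme.{u}} (q : C ⟶ Spec (CommRingCat.of k))

theorem comp_slice (t : Spec (CommRingCat.of k) ⟶ C) (ht : t ≫ q = 𝟙 _) :
    t ≫ AlgEqCyc.slice q q t ht = t ≫ pullback.diagonal q := by
  apply pullback.hom_ext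
  · rw [Category.assoc, Category.assoc, pullback.diagonal_fst]
    unfold AlgEqCyc.slice
    rw [pullback.lift_fst]
  · rw [Category.assoc, Category.assoc, pullback.diagonal_snd]
    unfold AlgEqCyc.slice
    rw [pullback.lift_snd, Category.comp_id, ← Category.assoc, ht, Category.id_comp]

theorem slice_apply_pt (t : Spec (CommRingCat.of k) ⟶ C) (ht : t ≫ q = 𝟙 _)
    (pt : Spec (CommRingCat.of k)) :
    (AlgEqCyc.slice q q t ht) (t pt) = (pullback.diagonal q) (t pt) := by
  have h := congrArg (fun f : Spec (CommRingCat.of k) ⟶ pullback q q => f pt) (comp_slice q t ht)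
  simpa only [Scheme.Hom.comp_apply] using h

theorem fst_slice (t : Spec (CommRingCat.of k) ⟶ C) (ht : t ≫ q = 𝟙 _) (x : C) :
    (pullback.fst q q) (AlgEqCyc.slice q q t ht x) = x := by
  have h : AlgEqCyc.slice q q t ht ≫ pullback.fst q q = 𝟙 C := by
    unfold AlgEqCyc.slice
    rw [pullback.lift_fst]
  have h2 := congrArg (fun f : C ⟶ C => f x) h
  simpa [Scheme.Hom.comp_apply] using h2

theorem snd_slice (t : Spec (CommRingCat.of k) ⟶ C) (ht : t ≫ q = 𝟙 _) (x : C) :
    (pullback.snd q q) (AlgEqCyc.slice q q t ht x) = t (q x) := by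
  have h : AlgEqCyc.slice q q t ht ≫ pullback.snd q q = q ≫ t := by
    unfold AlgEqCyc.slice
    rw [pullback.lift_snd]
  have h2 := congrArg (fun f : C ⟶ C => f x) h
  simpa [Scheme.Hom.comp_apply] using h2

theorem fst_diag (c : C) : (pullback.fst q q) ((pullback.diagonal q) c) = c := by
  rw [← Scheme.Hom.comp_apply, pullback.diagonal_fst]
  rfl

theorem snd_diag (c : C) : (pullback.snd q q) ((pullback.diagonal q) c) = c := by
  rw [← Scheme.Hom.comp_apply, pullback.diagonal_snd]
  rfl

variable [IsIntegral C]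

open Classical in
/-- the cycle of the diagonal -/
noncomputable def diagCycle : AlgebraicCycle (pullback q q) ℤ :=
  Function.locallyFinsuppWithin.single ((pullback.diagonal q) (genericPoint C)) (1 : ℤ)

open Classical in
theorem diagCycle_self : diagCycle q ((pullback.diagonal q) (genericPoint C)) = 1 := by
  unfold diagCycle
  rw [Function.locallyFinsuppWithin.single_apply]
  simp

open Classical in
theorem diagCycle_ne_zero {w : ↥(pullback q q)} (h : diagCycle q w ≠ 0) :
    w = (pullback.diagonal q) (genericPoint C) := by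
  unfold diagCycle at h
  rw [Function.locallyFinsuppWithin.single_apply] at h
  by_contra hne
  exact h (if_neg hne)

theorem eq_of_specializes_slice [IsSeparated q] (t : Spec (CommRingCat.of k) ⟶ C)
    (ht : t ≫ q = 𝟙 _) (pt : Spec (CommRingCat.of k)) (x : C)
    (h : (pullback.diagonal q) (genericPoint C) ⤳ AlgEqCyc.slice q q t ht x) : x = t pt := by
  have hcl : IsClosed (Set.range (pullback.diagonal q)) :=
    (pullback.diagonal q).isClosedEmbedding.isClosed_range
  have hmem : AlgEqCyc.slice q q t ht x ∈ Set.range (pullback.diagonal q) :=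
    h.mem_closed hcl ⟨_, rfl⟩
  obtain ⟨c, hc⟩ := hmem
  have h1 := fst_slice q t ht x
  have h2 := snd_slice q t ht x
  rw [← hc, fst_diag] at h1
  rw [← hc, snd_diag] at h2
  haveI : Subsingleton ↥(Spec (CommRingCat.of k)) :=
    inferInstanceAs (Subsingleton (PrimeSpectrum k))
  rw [← h1, h2, Subsingleton.elim (q x) pt]

/-- the key fact: the kernel of the stalk map of the diagonal lies in the prime of the generic
point of the diagonal -/
theorem key_K (c : C)
    (h : (pullback.diagonal q) (genericPoint C) ⤳ (pullback.diagonal q) c)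
    (a : (pullback q q).presheaf.stalk ((pullback.diagonal q) c))
    (ha : ((pullback.diagonal q).stalkMap c).hom a = 0) :
    Cyc.specMap ((pullback.diagonal q) c) ((pullback.diagonal q) (genericPoint C)) h a = 0 := by
  have hη : genericPoint C ⤳ c := genericPoint_specializes c
  have key := Scheme.Hom.stalkSpecializes_stalkMap_apply (pullback.diagonal q)
    (genericPoint C) c hη a
  have ha' : (pullback.diagonal q).stalkMap c a = 0 := ha
  rw [ha', map_zero] at key
  obtain ⟨b, hb⟩ : ∃ b, b = ((pullback q q).presheaf.stalkSpecializes h).hom a := ⟨_, rfl⟩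
  have key' : ((pullback.diagonal q).stalkMap (genericPoint C)).hom b = 0 := by
    rw [hb]
    exact key
  have hbm : b ∈ IsLocalRing.maximalIdeal
      ((pullback q q).presheaf.stalk ((pullback.diagonal q) (genericPoint C))) := by
    rw [IsLocalRing.mem_maximalIdeal, mem_nonunits_iff]
    intro hu
    have h1 := hu.map ((pullback.diagonal q).stalkMap (genericPoint C)).hom
    rw [key'] at h1
    exact not_isUnit_zero h1
  show ((pullback q q).residue ((pullback.diagonal q) (genericPoint C))).hom
    (((pullback q q).presheaf.stalkSpecializes h).hom a) = 0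
  rw [← hb]
  exact (IsLocalRing.residue_eq_zero_iff b).2 hbm

theorem key_H (c : C)
    (h : (pullback.diagonal q) (genericPoint C) ⤳ (pullback.diagonal q) c) :
    ∀ r ∈ maximalIdeal ((pullback q q).presheaf.stalk ((pullback.diagonal q) c)),
      ∃ s ∈ maximalIdeal (C.presheaf.stalk ((pullback.snd q q) ((pullback.diagonal q) c))),
        r - ((pullback.snd q q).stalkMap ((pullback.diagonal q) c)).hom s ∈
          RingHom.ker (Cyc.specMap ((pullback.diagonal q) c)
            ((pullback.diagonal q) (genericPoint C)) h) := by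
  intro r hr
  haveI hiso0 : IsIso (pullback.diagonal q ≫ pullback.snd q q) := by
    rw [pullback.diagonal_snd]
    infer_instance
  haveI hiso : IsIso ((pullback.snd q q).stalkMap ((pullback.diagonal q) c) ≫
      (pullback.diagonal q).stalkMap c) := by
    rw [← Scheme.Hom.stalkMap_comp]
    exact isIso_stalkMap_of_eq_id _ (pullback.diagonal_snd q) c
  obtain ⟨s, hs⟩ := (ConcreteCategory.bijective_of_isIso
    ((pullback.snd q q).stalkMap ((pullback.diagonal q) c) ≫
      (pullback.diagonal q).stalkMap c)).2 (((pullback.diagonal q).stalkMap c).hom r)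
  have hs' : ((pullback.diagonal q).stalkMap c).hom
      (((pullback.snd q q).stalkMap ((pullback.diagonal q) c)).hom s) =
      ((pullback.diagonal q).stalkMap c).hom r := hs
  refine ⟨s, ?_, ?_⟩
  · rw [IsLocalRing.mem_maximalIdeal, mem_nonunits_iff] at hr ⊢
    intro hu
    apply hr
    have h1 : IsUnit (((pullback.diagonal q).stalkMap c).hom
        (((pullback.snd q q).stalkMap ((pullback.diagonal q) c)).hom s)) :=
      (hu.map _).map _
    rw [hs'] at h1
    exact IsLocalHom.map_nonunit r h1
  · rw [RingHom.mem_ker]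
    apply key_K q c h
    rw [map_sub, hs', sub_self]

theorem key_L (c : C) :
    ∀ s ∈ maximalIdeal (C.presheaf.stalk ((pullback.snd q q) ((pullback.diagonal q) c))),
      ((pullback.snd q q).stalkMap ((pullback.diagonal q) c)).hom s ∈
        maximalIdeal ((pullback q q).presheaf.stalk ((pullback.diagonal q) c)) := by
  intro s hs
  rw [IsLocalRing.mem_maximalIdeal, mem_nonunits_iff] at hs ⊢
  exact fun hu => hs (IsLocalHom.map_nonunit s hu)

theorem fibreMult_diag (c : C)
    (h : (pullback.diagonal q) (genericPoint C) ⤳ (pullback.diagonal q) c) :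
    AlgEqCyc.fibreMult (pullback.snd q q) ((pullback.diagonal q) c)
      ((pullback.diagonal q) (genericPoint C)) h = 1 := by
  have hlen := length_doubleQuot_eq_one
    (ψ := ((pullback.snd q q).stalkMap ((pullback.diagonal q) c)).hom)
    (𝔭 := RingHom.ker (Cyc.specMap ((pullback.diagonal q) c)
      ((pullback.diagonal q) (genericPoint C)) h))
    (RingHom.ker_ne_top _) (key_H q c h) (key_L q c)
  unfold AlgEqCyc.fibreMult
  exact (congrArg ENat.toNat hlen).trans ENat.toNat_one

theorem fibreMult_diag' (v : ↥(pullback q q)) (c : C) (hv : v = (pullback.diagonal q) c)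
    (h : (pullback.diagonal q) (genericPoint C) ⤳ v) :
    AlgEqCyc.fibreMult (pullback.snd q q) v ((pullback.diagonal q) (genericPoint C)) h = 1 := by
  subst hv
  exact fibreMult_diag q c h

theorem fibreFun_diagCycle [IsSeparated q] (t : Spec (CommRingCat.of k) ⟶ C)
    (ht : t ≫ q = 𝟙 _) (pt : Spec (CommRingCat.of k)) (x : C) [Decidable (x = t pt)] :
    AlgEqCyc.fibreFun q q (diagCycle q) t ht x = if x = t pt then 1 else 0 := by
  show (∑ᶠ w : {w : ↥(pullback q q) // diagCycle q w ≠ 0 ∧ w ⤳ AlgEqCyc.slice q q t ht x},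
    diagCycle q w.1 * (AlgEqCyc.fibreMult (pullback.snd q q) (AlgEqCyc.slice q q t ht x)
      w.1 w.2.2 : ℤ)) = _
  split_ifs with hx
  · subst hx
    have hv : AlgEqCyc.slice q q t ht (t pt) = (pullback.diagonal q) (t pt) :=
      slice_apply_pt q t ht pt
    have hspec : (pullback.diagonal q) (genericPoint C) ⤳ AlgEqCyc.slice q q t ht (t pt) := by
      rw [hv]
      exact (genericPoint_specializes (t pt)).map (pullback.diagonal q).continuous
    have hne : diagCycle q ((pullback.diagonal q) (genericPoint C)) ≠ 0 := by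
      rw [diagCycle_self]
      exact one_ne_zero
    rw [finsum_eq_single _ (⟨(pullback.diagonal q) (genericPoint C), hne, hspec⟩ :
      {w : ↥(pullback q q) // diagCycle q w ≠ 0 ∧ w ⤳ AlgEqCyc.slice q q t ht (t pt)})
      (fun w hw => (hw (Subtype.ext (diagCycle_ne_zero q w.2.1))).elim)]
    show diagCycle q ((pullback.diagonal q) (genericPoint C)) *
      ((AlgEqCyc.fibreMult (pullback.snd q q) (AlgEqCyc.slice q q t ht (t pt))
        ((pullback.diagonal q) (genericPoint C)) hspec : ℕ) : ℤ) = 1
    rw [diagCycle_self, fibreMult_diag' q _ (t pt) hv hspec]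
    norm_num
  · haveI : IsEmpty {w : ↥(pullback q q) //
        diagCycle q w ≠ 0 ∧ w ⤳ AlgEqCyc.slice q q t ht x} :=
      ⟨fun w => hx (by
        have hw := diagCycle_ne_zero q w.2.1
        exact eq_of_specializes_slice q t ht pt x (hw ▸ w.2.2))⟩
    exact finsum_of_isEmpty _

end Geo

/-- **S15438** -/
theorem S15438_main (k : Type u) [Field k]
    (C : Scheme.{u}) [DecidableEq ↥C] (q : C ⟶ Spec (CommRingCat.of k)) (hs : Smooth q)
    (hp : Neron.IsProjectiveOver k (Over.mk q)) (hi : IsIntegral C)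
    (hd : topologicalKrullDim ↥C = 1)
    (P₁ P₂ : Spec (CommRingCat.of k) ⟶ C) (h₁ : P₁ ≫ q = 𝟙 _) (h₂ : P₂ ≫ q = 𝟙 _) :
    AlgEqCyc.IsElemAlgTriv q
      (Function.locallyFinsuppWithin.single (P₁ (IsLocalRing.closedPoint k)) (1 : ℤ) -
        Function.locallyFinsuppWithin.single (P₂ (IsLocalRing.closedPoint k)) (1 : ℤ)) := by
  haveI := hi
  haveI : IsSeparated q := by
    obtain ⟨n, i, hi1, hi2⟩ := hp
    haveI := hi1
    have hq : q = i ≫ CohB1.ProjSpaceOver.toBase n (Spec (CommRingCat.of k)) := hi2.symm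
    rw [hq]
    infer_instance
  refine ⟨C, q, hs, hp, hi, hd, diagCycle q, ?_, P₁, P₂, h₁, h₂, ?_⟩
  · intro w hw
    have hw' := diagCycle_ne_zero q hw
    subst hw'
    rw [snd_diag]
    exact (genericPoint_spec C).def
  · intro x
    rw [fibreFun_diagCycle q P₁ h₁ (IsLocalRing.closedPoint k) x,
      fibreFun_diagCycle q P₂ h₂ (IsLocalRing.closedPoint k) x,
      Function.locallyFinsuppWithin.coe_sub, Pi.sub_apply,
      Function.locallyFinsuppWithin.single_apply, Function.locallyFinsuppWithin.single_apply]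

end Groth.Agent.Helper2.AlgEqDiag
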