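import Mathlib
import Groth.Prelude.Def_AlgEqCyc
import Groth.Agent.Lib.Helper2.AlgEq.Diag
import Groth.Agent.Lib.Helper4.WordPts1

/-!
# The graph family of a curve in a scheme; points on a connected union of smooth projective
curves are algebraically equivalent (S15439)
(helper2)
-/

set_option autoImplicit false
set_option backward.isDefEq.respectTransparency.types false
set_option synthInstance.maxHeartbeats 400000
set_option maxHeartbeats 4000000
set_option linter.style.haveILetI false
set_option linter.unusedSectionVars false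
set_option linter.unusedVariables false
set_option linter.unusedSimpArgs false
set_option linter.unnecessarySimpa false

universe u
open CategoryTheory CategoryTheory.Limits AlgebraicGeometry TopologicalSpace IsLocalRing

namespace Groth.Agent.Helper2.AlgEqGraph

open Groth.Agent.Helper2.AlgEqDiag

section Geo

variable {k : Type u} [Field k] {X C : Scheme.{u}} (p : X ⟶ Spec (CommRingCat.of k))
  (q : C ⟶ Spec (CommRingCat.of k)) (ι : C ⟶ X) (hιq : ι ≫ p = q)

/-- the graph of `ι` as a morphism to the product -/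
noncomputable def graph : C ⟶ pullback p q :=
  pullback.lift ι (𝟙 C) (by rw [hιq, Category.id_comp])

theorem graph_fst : graph p q ι hιq ≫ pullback.fst p q = ι := by
  unfold graph
  rw [pullback.lift_fst]

theorem graph_snd : graph p q ι hιq ≫ pullback.snd p q = 𝟙 C := by
  unfold graph
  rw [pullback.lift_snd]

theorem isClosedImmersion_graph [IsClosedImmersion ι] [IsSeparated q] :
    IsClosedImmersion (graph p q ι hιq) := by
  have hm : IsClosedImmersion (pullback.map q q p q ι (𝟙 C) (𝟙 _)
      ((Category.comp_id _).trans hιq.symm) ((Category.comp_id _).trans (Category.id_comp q).symm)) :=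
    MorphismProperty.pullbackMap (P := @IsClosedImmersion) (i₁ := ι) (i₂ := 𝟙 C)
      inferInstance inferInstance hιq.symm (Category.id_comp q).symm
  have he : graph p q ι hιq = pullback.diagonal q ≫ pullback.map q q p q ι (𝟙 C) (𝟙 _)
      ((Category.comp_id _).trans hιq.symm)
      ((Category.comp_id _).trans (Category.id_comp q).symm) := by
    apply pullback.hom_ext
    · rw [graph_fst, Category.assoc, pullback.lift_fst, ← Category.assoc, pullback.diagonal_fst,
        Category.id_comp]
    · rw [graph_snd, Category.assoc, pullback.lift_snd, ← Category.assoc, pullback.diagonal_snd,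
        Category.id_comp]
  rw [he]
  infer_instance

theorem comp_slice (t : Spec (CommRingCat.of k) ⟶ C) (ht : t ≫ q = 𝟙 _)
    (ht' : (t ≫ ι) ≫ p = 𝟙 _) :
    (t ≫ ι) ≫ AlgEqCyc.slice p q t ht = t ≫ graph p q ι hιq := by
  apply pullback.hom_ext
  · simp only [Category.assoc]
    rw [graph_fst]
    unfold AlgEqCyc.slice
    rw [pullback.lift_fst, Category.comp_id]
  · simp only [Category.assoc]
    rw [graph_snd]
    unfold AlgEqCyc.slice
    rw [pullback.lift_snd, Category.comp_id]
    have h3 : t ≫ ι ≫ p ≫ t = ((t ≫ ι) ≫ p) ≫ t := by simp only [Category.assoc]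
    rw [h3, ht', Category.id_comp]

theorem slice_apply_pt (t : Spec (CommRingCat.of k) ⟶ C) (ht : t ≫ q = 𝟙 _)
    (pt : Spec (CommRingCat.of k)) :
    (AlgEqCyc.slice p q t ht) (ι (t pt)) = (graph p q ι hιq) (t pt) := by
  have ht' : (t ≫ ι) ≫ p = 𝟙 _ := by rw [Category.assoc, hιq, ht]
  have h := congrArg (fun f : Spec (CommRingCat.of k) ⟶ pullback p q => f pt)
    (comp_slice p q ι hιq t ht ht')
  simpa only [Scheme.Hom.comp_apply] using h

theorem fst_slice (t : Spec (CommRingCat.of k) ⟶ C) (ht : t ≫ q = 𝟙 _) (x : X) :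
    (pullback.fst p q) (AlgEqCyc.slice p q t ht x) = x := by
  have h : AlgEqCyc.slice p q t ht ≫ pullback.fst p q = 𝟙 X := by
    unfold AlgEqCyc.slice
    rw [pullback.lift_fst]
  rw [← Scheme.Hom.comp_apply, h]
  rfl

theorem snd_slice (t : Spec (CommRingCat.of k) ⟶ C) (ht : t ≫ q = 𝟙 _) (x : X) :
    (pullback.snd p q) (AlgEqCyc.slice p q t ht x) = t (p x) := by
  have h : AlgEqCyc.slice p q t ht ≫ pullback.snd p q = p ≫ t := by
    unfold AlgEqCyc.slice
    rw [pullback.lift_snd]
  rw [← Scheme.Hom.comp_apply, h, Scheme.Hom.comp_apply]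

theorem fst_graph (c : C) : (pullback.fst p q) ((graph p q ι hιq) c) = ι c := by
  rw [← Scheme.Hom.comp_apply, graph_fst]

theorem snd_graph (c : C) : (pullback.snd p q) ((graph p q ι hιq) c) = c := by
  rw [← Scheme.Hom.comp_apply, graph_snd]
  rfl

variable [IsIntegral C]

open Classical in
/-- the cycle of the graph -/
noncomputable def graphCycle : AlgebraicCycle (pullback p q) ℤ :=
  Function.locallyFinsuppWithin.single ((graph p q ι hιq) (genericPoint C)) (1 : ℤ)

open Classical in
theorem graphCycle_self :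
    graphCycle p q ι hιq ((graph p q ι hιq) (genericPoint C)) = 1 := by
  unfold graphCycle
  rw [Function.locallyFinsuppWithin.single_apply]
  simp

open Classical in
theorem graphCycle_ne_zero {w : ↥(pullback p q)} (h : graphCycle p q ι hιq w ≠ 0) :
    w = (graph p q ι hιq) (genericPoint C) := by
  unfold graphCycle at h
  rw [Function.locallyFinsuppWithin.single_apply] at h
  by_contra hne
  exact h (if_neg hne)

theorem eq_of_specializes_slice [IsClosedImmersion ι] [IsSeparated q]
    (t : Spec (CommRingCat.of k) ⟶ C)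
    (ht : t ≫ q = 𝟙 _) (pt : Spec (CommRingCat.of k)) (x : X)
    (h : (graph p q ι hιq) (genericPoint C) ⤳ AlgEqCyc.slice p q t ht x) : x = ι (t pt) := by
  haveI := isClosedImmersion_graph p q ι hιq
  have hcl : IsClosed (Set.range (graph p q ι hιq)) :=
    (graph p q ι hιq).isClosedEmbedding.isClosed_range
  have hmem : AlgEqCyc.slice p q t ht x ∈ Set.range (graph p q ι hιq) :=
    h.mem_closed hcl ⟨_, rfl⟩
  obtain ⟨c, hc⟩ := hmem
  have h1 := fst_slice p q t ht x
  have h2 := snd_slice p q t ht x
  rw [← hc, fst_graph] at h1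
  rw [← hc, snd_graph] at h2
  haveI : Subsingleton ↥(Spec (CommRingCat.of k)) :=
    inferInstanceAs (Subsingleton (PrimeSpectrum k))
  rw [← h1, h2, Subsingleton.elim (p x) pt]

theorem key_K (c : C)
    (h : (graph p q ι hιq) (genericPoint C) ⤳ (graph p q ι hιq) c)
    (a : (pullback p q).presheaf.stalk ((graph p q ι hιq) c))
    (ha : ((graph p q ι hιq).stalkMap c).hom a = 0) :
    Cyc.specMap ((graph p q ι hιq) c) ((graph p q ι hιq) (genericPoint C)) h a = 0 := by
  have hη : genericPoint C ⤳ c := genericPoint_specializes c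
  have key := Scheme.Hom.stalkSpecializes_stalkMap_apply (graph p q ι hιq)
    (genericPoint C) c hη a
  have ha' : (graph p q ι hιq).stalkMap c a = 0 := ha
  rw [ha', map_zero] at key
  obtain ⟨b, hb⟩ : ∃ b, b = ((pullback p q).presheaf.stalkSpecializes h).hom a := ⟨_, rfl⟩
  have key' : ((graph p q ι hιq).stalkMap (genericPoint C)).hom b = 0 := by
    rw [hb]
    exact key
  have hbm : b ∈ IsLocalRing.maximalIdeal
      ((pullback p q).presheaf.stalk ((graph p q ι hιq) (genericPoint C))) := by
    rw [IsLocalRing.mem_maximalIdeal, mem_nonunits_iff]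
    intro hu
    have h1 := hu.map ((graph p q ι hιq).stalkMap (genericPoint C)).hom
    rw [key'] at h1
    exact not_isUnit_zero h1
  show ((pullback p q).residue ((graph p q ι hιq) (genericPoint C))).hom
    (((pullback p q).presheaf.stalkSpecializes h).hom a) = 0
  rw [← hb]
  exact (IsLocalRing.residue_eq_zero_iff b).2 hbm

theorem key_H (c : C)
    (h : (graph p q ι hιq) (genericPoint C) ⤳ (graph p q ι hιq) c) :
    ∀ r ∈ maximalIdeal ((pullback p q).presheaf.stalk ((graph p q ι hιq) c)),
      ∃ s ∈ maximalIdeal (C.presheaf.stalk ((pullback.snd p q) ((graph p q ι hιq) c))),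
        r - ((pullback.snd p q).stalkMap ((graph p q ι hιq) c)).hom s ∈
          RingHom.ker (Cyc.specMap ((graph p q ι hιq) c)
            ((graph p q ι hιq) (genericPoint C)) h) := by
  intro r hr
  haveI hiso : IsIso ((pullback.snd p q).stalkMap ((graph p q ι hιq) c) ≫
      (graph p q ι hιq).stalkMap c) := by
    rw [← Scheme.Hom.stalkMap_comp]
    exact isIso_stalkMap_of_eq_id _ (graph_snd p q ι hιq) c
  obtain ⟨s, hs⟩ := (ConcreteCategory.bijective_of_isIso
    ((pullback.snd p q).stalkMap ((graph p q ι hιq) c) ≫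
      (graph p q ι hιq).stalkMap c)).2 (((graph p q ι hιq).stalkMap c).hom r)
  have hs' : ((graph p q ι hιq).stalkMap c).hom
      (((pullback.snd p q).stalkMap ((graph p q ι hιq) c)).hom s) =
      ((graph p q ι hιq).stalkMap c).hom r := hs
  refine ⟨s, ?_, ?_⟩
  · rw [IsLocalRing.mem_maximalIdeal, mem_nonunits_iff] at hr ⊢
    intro hu
    apply hr
    have h1 : IsUnit (((graph p q ι hιq).stalkMap c).hom
        (((pullback.snd p q).stalkMap ((graph p q ι hιq) c)).hom s)) :=
      (hu.map _).map _
    rw [hs'] at h1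
    exact IsLocalHom.map_nonunit r h1
  · rw [RingHom.mem_ker]
    apply key_K p q ι hιq c h
    rw [map_sub, hs', sub_self]

theorem key_L (c : C) :
    ∀ s ∈ maximalIdeal (C.presheaf.stalk ((pullback.snd p q) ((graph p q ι hιq) c))),
      ((pullback.snd p q).stalkMap ((graph p q ι hιq) c)).hom s ∈
        maximalIdeal ((pullback p q).presheaf.stalk ((graph p q ι hιq) c)) := by
  intro s hs
  rw [IsLocalRing.mem_maximalIdeal, mem_nonunits_iff] at hs ⊢
  exact fun hu => hs (IsLocalHom.map_nonunit s hu)

theorem fibreMult_graph (c : C)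
    (h : (graph p q ι hιq) (genericPoint C) ⤳ (graph p q ι hιq) c) :
    AlgEqCyc.fibreMult (pullback.snd p q) ((graph p q ι hιq) c)
      ((graph p q ι hιq) (genericPoint C)) h = 1 := by
  have hlen := length_doubleQuot_eq_one
    (ψ := ((pullback.snd p q).stalkMap ((graph p q ι hιq) c)).hom)
    (𝔭 := RingHom.ker (Cyc.specMap ((graph p q ι hιq) c)
      ((graph p q ι hιq) (genericPoint C)) h))
    (RingHom.ker_ne_top _) (key_H p q ι hιq c h) (key_L p q ι hιq c)
  unfold AlgEqCyc.fibreMult
  exact (congrArg ENat.toNat hlen).trans ENat.toNat_one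

theorem fibreMult_graph' (v : ↥(pullback p q)) (c : C) (hv : v = (graph p q ι hιq) c)
    (h : (graph p q ι hιq) (genericPoint C) ⤳ v) :
    AlgEqCyc.fibreMult (pullback.snd p q) v ((graph p q ι hιq) (genericPoint C)) h = 1 := by
  subst hv
  exact fibreMult_graph p q ι hιq c h

theorem fibreFun_graphCycle [IsClosedImmersion ι] [IsSeparated q]
    (t : Spec (CommRingCat.of k) ⟶ C)
    (ht : t ≫ q = 𝟙 _) (pt : Spec (CommRingCat.of k)) (x : X) [Decidable (x = ι (t pt))] :
    AlgEqCyc.fibreFun p q (graphCycle p q ι hιq) t ht x = if x = ι (t pt) then 1 else 0 := by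
  show (∑ᶠ w : {w : ↥(pullback p q) //
      graphCycle p q ι hιq w ≠ 0 ∧ w ⤳ AlgEqCyc.slice p q t ht x},
    graphCycle p q ι hιq w.1 * (AlgEqCyc.fibreMult (pullback.snd p q)
      (AlgEqCyc.slice p q t ht x) w.1 w.2.2 : ℤ)) = _
  split_ifs with hx
  · subst hx
    have hv : AlgEqCyc.slice p q t ht (ι (t pt)) = (graph p q ι hιq) (t pt) :=
      slice_apply_pt p q ι hιq t ht pt
    have hspec : (graph p q ι hιq) (genericPoint C) ⤳
        AlgEqCyc.slice p q t ht (ι (t pt)) := by
      rw [hv]
      exact (genericPoint_specializes (t pt)).map (graph p q ι hιq).continuous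
    have hne : graphCycle p q ι hιq ((graph p q ι hιq) (genericPoint C)) ≠ 0 := by
      rw [graphCycle_self]
      exact one_ne_zero
    rw [finsum_eq_single _ (⟨(graph p q ι hιq) (genericPoint C), hne, hspec⟩ :
      {w : ↥(pullback p q) // graphCycle p q ι hιq w ≠ 0 ∧
        w ⤳ AlgEqCyc.slice p q t ht (ι (t pt))})
      (fun w hw => (hw (Subtype.ext (graphCycle_ne_zero p q ι hιq w.2.1))).elim)]
    show graphCycle p q ι hιq ((graph p q ι hιq) (genericPoint C)) *
      ((AlgEqCyc.fibreMult (pullback.snd p q) (AlgEqCyc.slice p q t ht (ι (t pt)))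
        ((graph p q ι hιq) (genericPoint C)) hspec : ℕ) : ℤ) = 1
    rw [graphCycle_self, fibreMult_graph' p q ι hιq _ (t pt) hv hspec]
    norm_num
  · haveI : IsEmpty {w : ↥(pullback p q) //
        graphCycle p q ι hιq w ≠ 0 ∧ w ⤳ AlgEqCyc.slice p q t ht x} :=
      ⟨fun w => hx (by
        have hw := graphCycle_ne_zero p q ι hιq w.2.1
        exact eq_of_specializes_slice p q ι hιq t ht pt x (hw ▸ w.2.2))⟩
    exact finsum_of_isEmpty _

include hιq in
/-- the difference of two rational points of a smooth projective integral curve closed in `X`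
is an elementary algebraically trivial cycle on `X` -/
theorem isElemAlgTriv_graph [DecidableEq ↥X] [IsClosedImmersion ι] (hs : Smooth q)
    (hp : Neron.IsProjectiveOver k (Over.mk q)) (hd : topologicalKrullDim ↥C = 1)
    (t₁ t₂ : Spec (CommRingCat.of k) ⟶ C) (h₁ : t₁ ≫ q = 𝟙 _) (h₂ : t₂ ≫ q = 𝟙 _) :
    AlgEqCyc.IsElemAlgTriv p
      (Function.locallyFinsuppWithin.single (ι (t₁ (IsLocalRing.closedPoint k))) (1 : ℤ) -
        Function.locallyFinsuppWithin.single (ι (t₂ (IsLocalRing.closedPoint k))) (1 : ℤ)) := by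
  haveI : IsSeparated q := by
    obtain ⟨n, i, hi1, hi2⟩ := hp
    haveI := hi1
    have hq : q = i ≫ CohB1.ProjSpaceOver.toBase n (Spec (CommRingCat.of k)) := hi2.symm
    rw [hq]
    infer_instance
  refine ⟨C, q, hs, hp, inferInstance, hd, graphCycle p q ι hιq, ?_, t₁, t₂, h₁, h₂, ?_⟩
  · intro w hw
    have hw' := graphCycle_ne_zero p q ι hιq hw
    subst hw'
    rw [snd_graph]
    exact (genericPoint_spec C).def
  · intro x
    rw [fibreFun_graphCycle p q ι hιq t₁ h₁ (IsLocalRing.closedPoint k) x,
      fibreFun_graphCycle p q ι hιq t₂ h₂ (IsLocalRing.closedPoint k) x,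
      Function.locallyFinsuppWithin.coe_sub, Pi.sub_apply,
      Function.locallyFinsuppWithin.single_apply, Function.locallyFinsuppWithin.single_apply]

end Geo

end Groth.Agent.Helper2.AlgEqGraph
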