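import Mathlib
import Groth.Agent.Lib.Helper2.AlgEq.Graph

/-!
# Points on a connected union of smooth projective curves are algebraically equivalent (S15439)
(helper2)
-/

set_option autoImplicit false
set_option backward.isDefEq.respectTransparency.types false
set_option synthInstance.maxHeartbeats 400000
set_option maxHeartbeats 4000000
set_option linter.style.haveILetI false
set_option linter.unusedSectionVars false
set_option linter.unusedVariables false
set_option linter.unusedSimpArgs false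
set_option linter.unnecessarySimpa false

universe u
open CategoryTheory CategoryTheory.Limits AlgebraicGeometry TopologicalSpace IsLocalRing

namespace Groth.Agent.Helper2.AlgEqGraph

/-- **S15439** -/
theorem S15439_main (k : Type u) [Field k] [IsAlgClosed k] (X : Scheme.{u}) [DecidableEq ↥X]
    (p : X ⟶ Spec (CommRingCat.of k)) (n : ℕ) (C : Fin n → Scheme.{u})
    (q : (i : Fin n) → (C i ⟶ Spec (CommRingCat.of k))) (ι : (i : Fin n) → (C i ⟶ X))
    (hι : ∀ i, IsClosedImmersion (ι i)) (hq : ∀ i, ι i ≫ p = q i) (hs : ∀ i, Smooth (q i))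
    (hpr : ∀ i, Neron.IsProjectiveOver k (Over.mk (q i))) (hint : ∀ i, IsIntegral (C i))
    (hd : ∀ i, topologicalKrullDim ↥(C i) = 1)
    (hconn : _root_.IsConnected (⋃ i, Set.range ⇑(ι i)))
    (P Q : Spec (CommRingCat.of k) ⟶ X) (hP : P ≫ p = 𝟙 _) (hQ : Q ≫ p = 𝟙 _)
    (hPC : P (IsLocalRing.closedPoint k) ∈ ⋃ i, Set.range ⇑(ι i))
    (hQC : Q (IsLocalRing.closedPoint k) ∈ ⋃ i, Set.range ⇑(ι i)) :
    AlgEqCyc.IsAlgEquiv p
      (Function.locallyFinsuppWithin.single (P (IsLocalRing.closedPoint k)) (1 : ℤ))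
      (Function.locallyFinsuppWithin.single (Q (IsLocalRing.closedPoint k)) (1 : ℤ)) := by
  have rel_symm : ∀ α β : AlgebraicCycle X ℤ, AlgEqCyc.IsAlgEquiv p α β →
      AlgEqCyc.IsAlgEquiv p β α := by
    intro α β h
    unfold AlgEqCyc.IsAlgEquiv at h ⊢
    have h1 := (AlgEqCyc.algTriv p).neg_mem h
    rwa [neg_sub] at h1
  have rel_trans : ∀ α β γ : AlgebraicCycle X ℤ, AlgEqCyc.IsAlgEquiv p α β →
      AlgEqCyc.IsAlgEquiv p β γ → AlgEqCyc.IsAlgEquiv p α γ := by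
    intro α β γ h1 h2
    unfold AlgEqCyc.IsAlgEquiv at h1 h2 ⊢
    have h3 := (AlgEqCyc.algTriv p).add_mem h1 h2
    rwa [sub_add_sub_cancel] at h3
  have hE : ∀ (i : Fin n) (t t' : Spec (CommRingCat.of k) ⟶ C i), t ≫ q i = 𝟙 _ →
      t' ≫ q i = 𝟙 _ →
      AlgEqCyc.IsAlgEquiv p
        (Function.locallyFinsuppWithin.single (ι i (t (IsLocalRing.closedPoint k))) (1 : ℤ))
        (Function.locallyFinsuppWithin.single (ι i (t' (IsLocalRing.closedPoint k))) (1 : ℤ)) := by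
    intro i t t' ht ht'
    haveI := hι i
    haveI := hint i
    exact AddSubgroup.subset_closure
      (isElemAlgTriv_graph p (q i) (ι i) (hq i) (hs i) (hpr i) (hd i) t t' ht ht')
  have hsec : ∀ (i : Fin n) (a : Spec (CommRingCat.of k) ⟶ X), a ≫ p = 𝟙 _ →
      a (IsLocalRing.closedPoint k) ∈ Set.range ⇑(ι i) →
      ∃ t : Spec (CommRingCat.of k) ⟶ C i, t ≫ q i = 𝟙 _ ∧ t ≫ ι i = a := by
    intro i a ha hmem
    haveI := hι i
    obtain ⟨c, hc⟩ := hmem
    obtain ⟨z, -, -⟩ := Scheme.Pullback.exists_preimage_pullback (f := a) (g := ι i)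
      (IsLocalRing.closedPoint k) c hc.symm
    haveI : Nonempty ↥(pullback a (ι i)) := ⟨z⟩
    obtain ⟨σ, hσ⟩ := Groth.Agent.Lib.Helper4.WordPts1.exists_section_of_lft
      (pullback.fst a (ι i))
    have h2 : (σ ≫ pullback.snd a (ι i)) ≫ ι i = a := by
      rw [Category.assoc, ← pullback.condition, ← Category.assoc, hσ, Category.id_comp]
    refine ⟨σ ≫ pullback.snd a (ι i), ?_, h2⟩
    rw [← hq i, ← Category.assoc, h2, ha]
  have hint2 : ∀ i j : Fin n, (Set.range ⇑(ι i) ∩ Set.range ⇑(ι j)).Nonempty →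
      ∃ (t : Spec (CommRingCat.of k) ⟶ C i) (t' : Spec (CommRingCat.of k) ⟶ C j),
        t ≫ q i = 𝟙 _ ∧ t' ≫ q j = 𝟙 _ ∧ t ≫ ι i = t' ≫ ι j := by
    rintro i j ⟨y, ⟨a, ha⟩, ⟨b, hb⟩⟩
    haveI := hι i
    haveI := hι j
    haveI := hs i
    obtain ⟨z, -, -⟩ := Scheme.Pullback.exists_preimage_pullback (f := ι i) (g := ι j) a b
      (ha.trans hb.symm)
    haveI : Nonempty ↥(pullback (ι i) (ι j)) := ⟨z⟩
    haveI : LocallyOfFiniteType (pullback.fst (ι i) (ι j) ≫ q i) := inferInstance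
    obtain ⟨σ, hσ⟩ := Groth.Agent.Lib.Helper4.WordPts1.exists_section_of_lft
      (pullback.fst (ι i) (ι j) ≫ q i)
    have h3 : (σ ≫ pullback.snd (ι i) (ι j)) ≫ ι j = (σ ≫ pullback.fst (ι i) (ι j)) ≫ ι i := by
      rw [Category.assoc, Category.assoc, pullback.condition]
    refine ⟨σ ≫ pullback.fst (ι i) (ι j), σ ≫ pullback.snd (ι i) (ι j), ?_, ?_, h3.symm⟩
    · rw [Category.assoc]
      exact hσ
    · rw [← hq j, ← Category.assoc, h3, Category.assoc, hq i, Category.assoc]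
      exact hσ
  rw [Set.mem_iUnion] at hPC hQC
  obtain ⟨i₀, hi₀⟩ := hPC
  obtain ⟨j₀, hj₀⟩ := hQC
  obtain ⟨tP, htP, htP'⟩ := hsec i₀ P hP hi₀
  obtain ⟨tQ, htQ, htQ'⟩ := hsec j₀ Q hQ hj₀
  have hPpt : P (IsLocalRing.closedPoint k) = ι i₀ (tP (IsLocalRing.closedPoint k)) := by
    rw [← htP', Scheme.Hom.comp_apply]
  have hQpt : Q (IsLocalRing.closedPoint k) = ι j₀ (tQ (IsLocalRing.closedPoint k)) := by
    rw [← htQ', Scheme.Hom.comp_apply]
  obtain ⟨A, hA⟩ : ∃ A : Set (Fin n), A = {i | ∀ t : Spec (CommRingCat.of k) ⟶ C i,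
      t ≫ q i = 𝟙 _ → AlgEqCyc.IsAlgEquiv p
        (Function.locallyFinsuppWithin.single (ι i (t (IsLocalRing.closedPoint k))) (1 : ℤ))
        (Function.locallyFinsuppWithin.single (P (IsLocalRing.closedPoint k)) (1 : ℤ))} :=
    ⟨_, rfl⟩
  have hAmem : ∀ i, i ∈ A ↔ ∀ t : Spec (CommRingCat.of k) ⟶ C i,
      t ≫ q i = 𝟙 _ → AlgEqCyc.IsAlgEquiv p
        (Function.locallyFinsuppWithin.single (ι i (t (IsLocalRing.closedPoint k))) (1 : ℤ))
        (Function.locallyFinsuppWithin.single (P (IsLocalRing.closedPoint k)) (1 : ℤ)) := by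
    intro i
    rw [hA]
    rfl
  have hi₀A : i₀ ∈ A := by
    rw [hAmem]
    intro t ht
    rw [hPpt]
    exact hE i₀ t tP ht htP
  have hall : ∀ j, j ∈ A := by
    by_contra hne
    push_neg at hne
    obtain ⟨j, hj⟩ := hne
    have hT : IsClosed (⋃ i ∈ A, Set.range ⇑(ι i)) :=
      Set.Finite.isClosed_biUnion (Set.toFinite A)
        (fun i _ => (ι i).isClosedEmbedding.isClosed_range)
    have hT' : IsClosed (⋃ i ∈ Aᶜ, Set.range ⇑(ι i)) :=
      Set.Finite.isClosed_biUnion (Set.toFinite Aᶜ)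
        (fun i _ => (ι i).isClosedEmbedding.isClosed_range)
    have hsub : (⋃ i, Set.range ⇑(ι i)) ⊆
        (⋃ i ∈ A, Set.range ⇑(ι i)) ∪ (⋃ i ∈ Aᶜ, Set.range ⇑(ι i)) := by
      intro y hy
      rw [Set.mem_iUnion] at hy
      obtain ⟨i, hi⟩ := hy
      by_cases hiA : i ∈ A
      · exact Or.inl (Set.mem_biUnion hiA hi)
      · exact Or.inr (Set.mem_biUnion (show i ∈ Aᶜ from hiA) hi)
    have hne1 : ((⋃ i, Set.range ⇑(ι i)) ∩ (⋃ i ∈ A, Set.range ⇑(ι i))).Nonempty :=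
      ⟨P (IsLocalRing.closedPoint k), Set.mem_iUnion.2 ⟨i₀, hi₀⟩, Set.mem_biUnion hi₀A hi₀⟩
    have hne2 : ((⋃ i, Set.range ⇑(ι i)) ∩ (⋃ i ∈ Aᶜ, Set.range ⇑(ι i))).Nonempty := by
      haveI := hint j
      obtain ⟨c⟩ : Nonempty ↥(C j) := inferInstance
      exact ⟨ι j c, Set.mem_iUnion.2 ⟨j, ⟨c, rfl⟩⟩,
        Set.mem_biUnion (show j ∈ Aᶜ from hj) ⟨c, rfl⟩⟩
    obtain ⟨y, -, hy1, hy2⟩ :=
      isPreconnected_closed_iff.1 hconn.isPreconnected _ _ hT hT' hsub hne1 hne2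
    rw [Set.mem_iUnion₂] at hy1 hy2
    obtain ⟨i, hiA, hyi⟩ := hy1
    obtain ⟨j', hj'A, hyj'⟩ := hy2
    obtain ⟨t, t', ht, ht', htt'⟩ := hint2 i j' ⟨y, hyi, hyj'⟩
    apply hj'A
    rw [hAmem]
    intro s hs'
    have h1 := hE j' s t' hs' ht'
    have h2 : ι j' (t' (IsLocalRing.closedPoint k)) = ι i (t (IsLocalRing.closedPoint k)) := by
      have h4 := congrArg (fun f : Spec (CommRingCat.of k) ⟶ X =>
        f (IsLocalRing.closedPoint k)) htt'
      simpa only [Scheme.Hom.comp_apply] using h4.symm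
    rw [h2] at h1
    exact rel_trans _ _ _ h1 ((hAmem i).1 hiA t ht)
  have h := (hAmem j₀).1 (hall j₀) tQ htQ
  rw [← hQpt] at h
  exact rel_symm _ _ h

end Groth.Agent.Helper2.AlgEqGraph
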