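import Mathlib
import Groth.Prelude.Def_Cyc
import Groth.Agent.Lib.Helper6.DVRFib.Generic

/-!
# The cycle of the flat closure of the generic fibre over a DVR (S13744)
(helper2)
-/

set_option autoImplicit false
set_option backward.isDefEq.respectTransparency.types false
set_option synthInstance.maxHeartbeats 400000
set_option maxHeartbeats 4000000
set_option linter.style.haveILetI false
set_option linter.unusedSectionVars false
set_option linter.unusedVariables false
set_option linter.unusedSimpArgs false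
set_option linter.unnecessarySimpa false

universe u
open CategoryTheory CategoryTheory.Limits AlgebraicGeometry TopologicalSpace IsLocalRing

namespace Groth.Agent.Helper2.FlatClosure

/-- a local ring with a non-zero-divisor in its maximal ideal has infinite length -/
theorem length_eq_top_of_nonZeroDivisor {B : Type*} [CommRing B] [IsLocalRing B] (ϖ : B)
    (hm : ϖ ∈ IsLocalRing.maximalIdeal B) (hnzd : ϖ ∈ nonZeroDivisors B) :
    Module.length B B = ⊤ := by
  by_contra hne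
  rw [← ne_eq, Module.length_ne_top_iff, isFiniteLength_iff_isNoetherian_isArtinian] at hne
  obtain ⟨_, hart⟩ := hne
  haveI : IsArtinianRing B := hart
  have hnil := IsArtinianRing.isNilpotent_jacobson_bot (R := B)
  rw [IsLocalRing.jacobson_eq_maximalIdeal ⊥ bot_ne_top] at hnil
  obtain ⟨n, hn⟩ := hnil
  have h1 : ϖ ^ n ∈ (IsLocalRing.maximalIdeal B) ^ n := Ideal.pow_mem_pow hm n
  rw [hn] at h1
  have h2 : ϖ ^ n = 0 := by simpa using h1
  have h3 : ϖ ^ n ∈ nonZeroDivisors B := pow_mem hnzd n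
  rw [h2] at h3
  exact zero_notMem_nonZeroDivisors h3

/-- length of a ring over itself is invariant under ring isomorphisms -/
theorem length_eq_of_ringEquiv {A B : Type*} [CommRing A] [CommRing B] (e : A ≃+* B) :
    Module.length A A = Module.length B B := by
  letI : Algebra A B := e.toRingHom.toAlgebra
  have hsurj : Function.Surjective (algebraMap A B) := e.surjective
  rw [← Module.length_eq_of_surjective (S := A) (R := B) (M := B) hsurj]
  have l : A ≃ₗ[A] B :=
    { e.toAddEquiv with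
      map_smul' := fun a b => by
        change e (a * b) = e a * e b
        exact map_mul e a b }
  exact l.length_eq

theorem subschemeFun_eq_zero' {Y Z : Scheme.{u}} (i : Z ⟶ Y) (y : Y)
    (hy : ∀ z : Z, i z ≠ y) : Cyc.subschemeFun (fun _ => (0 : ℤ)) 0 i y = 0 := by
  unfold Cyc.subschemeFun
  rw [if_pos rfl]
  have h0 : {z : Z | i z = y} = ∅ := Set.eq_empty_iff_forall_notMem.2 (fun z hz => hy z hz)
  rw [h0, finsum_mem_empty]

theorem subschemeFun_eq_of_injective' {Y Z : Scheme.{u}} (i : Z ⟶ Y)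
    (hi : Function.Injective ⇑i) (z : Z) :
    Cyc.subschemeFun (fun _ => (0 : ℤ)) 0 i (i z) =
      ((Module.length (Z.presheaf.stalk z) (Z.presheaf.stalk z)).toNat : ℤ) := by
  unfold Cyc.subschemeFun
  rw [if_pos rfl]
  have h0 : {z' : Z | i z' = i z} = {z} := by
    ext z'
    simp only [Set.mem_ofPred_eq, Set.mem_singleton_iff]
    exact ⟨fun h => hi h, fun h => by rw [h]⟩
  rw [h0, finsum_mem_singleton]

/-- the cycle of the scheme-theoretic image of a quasi-compact open immersion, all of whose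
boundary points have infinite length -/
theorem subschemeFun_image_eq {ZK ZR XK XR : Scheme.{u}} (uu : ZK ⟶ ZR) [IsOpenImmersion uu]
    [QuasiCompact uu] (a : ZR ⟶ XR) (b : ZK ⟶ XK) (v : XK ⟶ XR)
    (hcomm : uu ≫ a = b ≫ v)
    (ha : Function.Injective ⇑a) (hb : Function.Injective ⇑b) (hv : Function.Injective ⇑v)
    (hinf : ∀ z : uu.image, z ∉ Set.range ⇑uu.toImage →
       Module.length (uu.image.presheaf.stalk z) (uu.image.presheaf.stalk z) = ⊤)
    (t : XR) :
    Cyc.subschemeFun (fun _ => (0 : ℤ)) 0 (uu.imageι ≫ a) t =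
      ∑ᶠ t' ∈ {t' : XK | v t' = t}, Cyc.subschemeFun (fun _ => (0 : ℤ)) 0 b t' := by
  have hcommpt : ∀ zk : ZK, a (uu zk) = v (b zk) := fun zk => by
    rw [← Scheme.Hom.comp_apply, ← Scheme.Hom.comp_apply, hcomm]
  have himg : ∀ zk : ZK, uu.imageι (uu.toImage zk) = uu zk := fun zk => by
    rw [← Scheme.Hom.comp_apply, uu.toImage_imageι]
  have hιinj : Function.Injective ⇑uu.imageι := uu.imageι.isEmbedding.injective
  have hιa : Function.Injective ⇑(uu.imageι ≫ a) := by
    intro z1 z2 h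
    rw [Scheme.Hom.comp_apply, Scheme.Hom.comp_apply] at h
    exact hιinj (ha h)
  by_cases hex : ∃ z : uu.image, (uu.imageι ≫ a) z = t
  · obtain ⟨z, rfl⟩ := hex
    rw [subschemeFun_eq_of_injective' _ hιa z]
    by_cases hz : z ∈ Set.range ⇑uu.toImage
    · obtain ⟨zk, rfl⟩ := hz
      have ht : v (b zk) = (uu.imageι ≫ a) (uu.toImage zk) := by
        rw [Scheme.Hom.comp_apply, himg zk, hcommpt]
      have h0 : {t' : XK | v t' = (uu.imageι ≫ a) (uu.toImage zk)} = {b zk} := by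
        ext t'
        simp only [Set.mem_ofPred_eq, Set.mem_singleton_iff]
        exact ⟨fun h => hv (h.trans ht.symm), fun h => by rw [h, ht]⟩
      rw [h0, finsum_mem_singleton, subschemeFun_eq_of_injective' b hb zk]
      haveI : IsIso (uu.toImage.stalkMap zk) := inferInstance
      rw [length_eq_of_ringEquiv (asIso (uu.toImage.stalkMap zk)).commRingCatIsoToRingEquiv]
    · rw [hinf z hz, ENat.toNat_top, Nat.cast_zero]
      symm
      apply finsum_mem_of_eqOn_zero
      intro t' ht'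
      show Cyc.subschemeFun (fun _ => (0 : ℤ)) 0 b t' = 0
      apply subschemeFun_eq_zero'
      intro zk hzk
      apply hz
      refine ⟨zk, hιinj ?_⟩
      rw [himg zk]
      apply ha
      rw [hcommpt, hzk]
      exact ht'
  · have hL : Cyc.subschemeFun (fun _ => (0 : ℤ)) 0 (uu.imageι ≫ a) t = 0 :=
      subschemeFun_eq_zero' _ t (fun z hz => hex ⟨z, hz⟩)
    rw [hL]
    symm
    apply finsum_mem_of_eqOn_zero
    intro t' ht'
    show Cyc.subschemeFun (fun _ => (0 : ℤ)) 0 b t' = 0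
    apply subschemeFun_eq_zero'
    intro zk hzk
    apply hex
    refine ⟨uu.toImage zk, ?_⟩
    rw [Scheme.Hom.comp_apply, himg zk, hcommpt, hzk]
    exact ht'

theorem exists_preimage_of_isPullback {X₁ X₂ Y' Y : Scheme.{u}} {g : X₁ ⟶ Y'} {ψ : X₁ ⟶ X₂}
    {m : Y' ⟶ Y} {Δ : X₂ ⟶ Y} (hsq : IsPullback g ψ m Δ) (y : Y') (z : X₂) (h : m y = Δ z) :
    ∃ x : X₁, g x = y ∧ ψ x = z := by
  obtain ⟨w, hw1, hw2⟩ := Scheme.Pullback.exists_preimage_pullback (f := m) (g := Δ) y z h
  refine ⟨hsq.isoPullback.inv w, ?_, ?_⟩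
  · have := congrArg (fun φ : pullback m Δ ⟶ Y' => φ w) hsq.isoPullback_inv_fst
    exact this.trans hw1
  · have := congrArg (fun φ : pullback m Δ ⟶ X₂ => φ w) hsq.isoPullback_inv_snd
    exact this.trans hw2

theorem appLE_congr_hom {X Y : Scheme.{u}} {f g : X ⟶ Y} (h : f = g) (U : Y.Opens)
    (V : X.Opens) (e : V ≤ f ⁻¹ᵁ U) :
    f.appLE U V e = g.appLE U V (h ▸ e) := by
  subst h
  rfl

/-- points of the scheme-theoretic image of the generic fibre that are not in the generic fibre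
have local rings of infinite length -/
theorem length_eq_top_of_not_mem_range {ZK ZR SpK : Scheme.{u}} {R : CommRingCat.{u}}
    (uu : ZK ⟶ ZR) [IsOpenImmersion uu] [QuasiCompact uu]
    (sK : ZK ⟶ SpK) (sR : ZR ⟶ Spec R) (j : SpK ⟶ Spec R)
    (sq : IsPullback uu sK sR j) (ϖ : R)
    (hrange : ∀ P : Spec R, P ∈ (Spec R).basicOpen ((Scheme.ΓSpecIso R).inv ϖ) →
      P ∈ Set.range ⇑j)
    (hunit : IsUnit (j.appTop ((Scheme.ΓSpecIso R).inv ϖ)))
    (z : uu.image) (hz : z ∉ Set.range ⇑uu.toImage) :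
    Module.length (uu.image.presheaf.stalk z) (uu.image.presheaf.stalk z) = ⊤ := by
  have hqc : uu.toImage ≫ uu.imageι = uu := uu.toImage_imageι
  have hιinj : Function.Injective ⇑uu.imageι := uu.imageι.isEmbedding.injective
  obtain ⟨s, hs⟩ : ∃ s : Γ(Spec R, ⊤), s = (Scheme.ΓSpecIso R).inv ϖ := ⟨_, rfl⟩
  have hunit' : IsUnit (j.appTop s) := by rw [hs]; exact hunit
  have hA : (uu.imageι ≫ sR) z ∉ (Spec R).basicOpen s := by
    intro hmem
    rw [hs] at hmem
    obtain ⟨y, hy⟩ := hrange _ hmem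
    obtain ⟨zk, hzk1, hzk2⟩ := exists_preimage_of_isPullback sq (uu.imageι z) y
      ((Scheme.Hom.comp_apply _ _ z).symm.trans hy.symm)
    apply hz
    refine ⟨zk, hιinj ?_⟩
    rw [← Scheme.Hom.comp_apply, hqc, hzk1]
  obtain ⟨U, hU, hzU, -⟩ := (Opens.isBasis_iff_nbhd.mp ZR.isBasis_affineOpens)
    (show uu.imageι z ∈ (⊤ : ZR.Opens) from trivial)
  have hU' : IsAffineOpen U := hU
  have hW : IsAffineOpen (uu.imageι ⁻¹ᵁ U) := hU'.preimage uu.imageι
  obtain ⟨zz, hzz⟩ : ∃ zz : ↥(uu.imageι ⁻¹ᵁ U), (zz : uu.image) = z := ⟨⟨z, hzU⟩, rfl⟩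
  subst hzz
  have hinjq : Function.Injective (uu.toImage.app (uu.imageι ⁻¹ᵁ U)) :=
    uu.toImage_app_injective ⟨U, hU⟩
  have e0 : uu.imageι ⁻¹ᵁ U ≤ (uu.imageι ≫ sR) ⁻¹ᵁ ⊤ := by simp
  obtain ⟨πA, hπA⟩ : ∃ πA : Γ(uu.image, uu.imageι ⁻¹ᵁ U),
      πA = ((uu.imageι ≫ sR).appLE ⊤ (uu.imageι ⁻¹ᵁ U) e0) s := ⟨_, rfl⟩
  have hznot : (zz : uu.image) ∉ uu.image.basicOpen πA := by
    rw [hπA, Scheme.basicOpen_appLE]
    intro hmem
    exact hA (Opens.mem_inf.mp hmem).2
  have hgerm_mem : (uu.image.presheaf.germ (uu.imageι ⁻¹ᵁ U) zz zz.2) πA ∈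
      maximalIdeal (uu.image.presheaf.stalk (zz : uu.image)) := by
    rw [IsLocalRing.mem_maximalIdeal, mem_nonunits_iff]
    intro hu
    exact hznot ((Scheme.mem_basicOpen _ _ _ zz.2).mpr hu)
  have hunitq : IsUnit ((uu.toImage.app (uu.imageι ⁻¹ᵁ U)) πA) := by
    have h1 : uu.toImage ≫ uu.imageι ≫ sR = sK ≫ j := by
      rw [← Category.assoc, hqc, sq.w]
    rw [hπA, ← CommRingCat.comp_apply, Scheme.Hom.app_eq_appLE, Scheme.Hom.appLE_comp_appLE,
      appLE_congr_hom h1, Scheme.Hom.comp_appLE, CommRingCat.comp_apply]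
    exact hunit'.map (sK.appLE _ _ _).hom
  have hnzd : πA ∈ nonZeroDivisors Γ(uu.image, uu.imageι ⁻¹ᵁ U) := by
    rw [mem_nonZeroDivisors_iff_right]
    intro y hy
    apply hinjq
    rw [map_zero]
    have h2 := congrArg (uu.toImage.app (uu.imageι ⁻¹ᵁ U)) hy
    rw [map_mul, map_zero] at h2
    exact (hunitq.mul_left_eq_zero).mp h2
  haveI := hW.isLocalization_stalk zz
  have hmap := IsLocalization.map_nonZeroDivisors_le (hW.primeIdealOf zz).asIdeal.primeCompl
    (uu.image.presheaf.stalk (zz : uu.image))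
  have hgerm_nzd : (uu.image.presheaf.germ (uu.imageι ⁻¹ᵁ U) zz zz.2) πA ∈
      nonZeroDivisors (uu.image.presheaf.stalk (zz : uu.image)) :=
    hmap (Submonoid.mem_map_of_mem _ hnzd)
  exact length_eq_top_of_nonZeroDivisor _ hgerm_mem hgerm_nzd

theorem mono_pullback_map {C : Type*} [Category C] {W X Y Z S T : C} (f₁ : W ⟶ S) (f₂ : X ⟶ S)
    [HasPullback f₁ f₂] (g₁ : Y ⟶ T) (g₂ : Z ⟶ T) [HasPullback g₁ g₂] (i₁ : W ⟶ Y) (i₂ : X ⟶ Z)
    (i₃ : S ⟶ T) (eq₁ : f₁ ≫ i₃ = i₁ ≫ g₁) (eq₂ : f₂ ≫ i₃ = i₂ ≫ g₂) [Mono i₁] [Mono i₂] :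
    Mono (pullback.map f₁ f₂ g₁ g₂ i₁ i₂ i₃ eq₁ eq₂) := by
  constructor
  intro A g h hgh
  apply pullback.hom_ext
  · rw [← cancel_mono i₁, Category.assoc, Category.assoc]
    have h1 : pullback.fst f₁ f₂ ≫ i₁ =
        pullback.map f₁ f₂ g₁ g₂ i₁ i₂ i₃ eq₁ eq₂ ≫ pullback.fst g₁ g₂ :=
      (pullback.lift_fst _ _ _).symm
    rw [h1, ← Category.assoc, hgh, Category.assoc]
  · rw [← cancel_mono i₂, Category.assoc, Category.assoc]
    have h2 : pullback.snd f₁ f₂ ≫ i₂ =
        pullback.map f₁ f₂ g₁ g₂ i₁ i₂ i₃ eq₁ eq₂ ≫ pullback.snd g₁ g₂ :=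
      (pullback.lift_snd _ _ _).symm
    rw [h2, ← Category.assoc, hgh, Category.assoc]

theorem flatClosure_abstract {ZK ZR XK XR SpK : Scheme.{u}} {R : CommRingCat.{u}}
    (uu : ZK ⟶ ZR) (a : ZR ⟶ XR) (b : ZK ⟶ XK) (v : XK ⟶ XR) (sK : ZK ⟶ SpK)
    (sR : ZR ⟶ Spec R) (j : SpK ⟶ Spec R) [IsOpenImmersion j] [QuasiCompact j]
    (sq : IsPullback sK uu j sR) (hcomm : uu ≫ a = b ≫ v)
    (ha : Function.Injective ⇑a) (hb : Function.Injective ⇑b) (hv : Function.Injective ⇑v)
    (ϖ : R)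
    (hrange : ∀ P : Spec R, P ∈ (Spec R).basicOpen ((Scheme.ΓSpecIso R).inv ϖ) →
      P ∈ Set.range ⇑j)
    (hunit : IsUnit (j.appTop ((Scheme.ΓSpecIso R).inv ϖ))) (t : XR) :
    Cyc.subschemeFun (fun _ => (0 : ℤ)) 0 (uu.imageι ≫ a) t =
      ∑ᶠ t' ∈ {t' : XK | v t' = t}, Cyc.subschemeFun (fun _ => (0 : ℤ)) 0 b t' := by
  haveI : IsOpenImmersion uu :=
    MorphismProperty.of_isPullback (P := @IsOpenImmersion) sq inferInstance
  haveI : QuasiCompact uu :=
    MorphismProperty.of_isPullback (P := @QuasiCompact) sq inferInstance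
  exact subschemeFun_image_eq uu a b v hcomm ha hb hv
    (fun z hz => length_eq_top_of_not_mem_range uu sK sR j sq.flip ϖ hrange hunit z hz) t

theorem flatClosure_aux {X S Z SpK : Scheme.{u}} {R : CommRingCat.{u}} (p : X ⟶ S) (ι : Z ⟶ X)
    [Mono ι] (x : Spec R ⟶ S) (j : SpK ⟶ Spec R) [IsOpenImmersion j] [QuasiCompact j] (ϖ : R)
    (hrange : ∀ P : Spec R, P ∈ (Spec R).basicOpen ((Scheme.ΓSpecIso R).inv ϖ) →
      P ∈ Set.range ⇑j)
    (hunit : IsUnit (j.appTop ((Scheme.ΓSpecIso R).inv ϖ)))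
    (t : ↥(pullback p x)) :
    Cyc.subschemeFun (fun _ => (0 : ℤ)) 0 ((pullback.map (ι ≫ p) (j ≫ x) (ι ≫ p) x (𝟙 Z) j (𝟙 S) ((Category.comp_id _).trans (Category.id_comp _).symm) (Category.comp_id _)).ker.subschemeι ≫ pullback.map (ι ≫ p) x p x ι (𝟙 _) (𝟙 S) (Category.comp_id _) ((Category.comp_id _).trans (Category.id_comp _).symm)) t = ∑ᶠ t' ∈ {t' : ↥(pullback p (j ≫ x)) | (pullback.map p (j ≫ x) p x (𝟙 X) j (𝟙 S) ((Category.comp_id _).trans (Category.id_comp _).symm) (Category.comp_id _)) t' = t}, Cyc.subschemeFun (fun _ => (0 : ℤ)) 0 (pullback.map (ι ≫ p) (j ≫ x) p (j ≫ x) ι (𝟙 _) (𝟙 S) (Category.comp_id _) ((Category.comp_id _).trans (Category.id_comp _).symm)) t' := by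
  have sq : IsPullback (pullback.snd (ι ≫ p) (j ≫ x)) (pullback.map (ι ≫ p) (j ≫ x) (ι ≫ p) x (𝟙 Z) j (𝟙 S) ((Category.comp_id _).trans (Category.id_comp _).symm) (Category.comp_id _)) j (pullback.snd (ι ≫ p) x) := by
    refine IsPullback.of_bot ?_ ?_ (IsPullback.of_hasPullback (ι ≫ p) x).flip
    · have h1 : pullback.map (ι ≫ p) (j ≫ x) (ι ≫ p) x (𝟙 Z) j (𝟙 S) ((Category.comp_id _).trans (Category.id_comp _).symm) (Category.comp_id _) ≫ pullback.fst (ι ≫ p) x = pullback.fst (ι ≫ p) (j ≫ x) :=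
        (pullback.lift_fst _ _ _).trans (Category.comp_id _)
      rw [h1]
      exact (IsPullback.of_hasPullback (ι ≫ p) (j ≫ x)).flip
    · exact (pullback.lift_snd _ _ _).symm
  have hcomm : pullback.map (ι ≫ p) (j ≫ x) (ι ≫ p) x (𝟙 Z) j (𝟙 S) ((Category.comp_id _).trans (Category.id_comp _).symm) (Category.comp_id _) ≫ pullback.map (ι ≫ p) x p x ι (𝟙 _) (𝟙 S) (Category.comp_id _) ((Category.comp_id _).trans (Category.id_comp _).symm) = pullback.map (ι ≫ p) (j ≫ x) p (j ≫ x) ι (𝟙 _) (𝟙 S) (Category.comp_id _) ((Category.comp_id _).trans (Category.id_comp _).symm) ≫ pullback.map p (j ≫ x) p x (𝟙 X) j (𝟙 S) ((Category.comp_id _).trans (Category.id_comp _).symm) (Category.comp_id _) := by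
    apply pullback.hom_ext <;>
      simp only [pullback.map, Category.assoc, pullback.lift_fst, pullback.lift_fst_assoc,
        pullback.lift_snd, pullback.lift_snd_assoc, Category.comp_id, Category.id_comp]
  have ha : Function.Injective ⇑(pullback.map (ι ≫ p) x p x ι (𝟙 _) (𝟙 S) (Category.comp_id _) ((Category.comp_id _).trans (Category.id_comp _).symm)) := by
    haveI := mono_pullback_map (ι ≫ p) x p x ι (𝟙 _) (𝟙 S) (Category.comp_id _) ((Category.comp_id _).trans (Category.id_comp _).symm)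
    exact Scheme.Hom.injective _
  have hb : Function.Injective ⇑(pullback.map (ι ≫ p) (j ≫ x) p (j ≫ x) ι (𝟙 _) (𝟙 S) (Category.comp_id _) ((Category.comp_id _).trans (Category.id_comp _).symm)) := by
    haveI := mono_pullback_map (ι ≫ p) (j ≫ x) p (j ≫ x) ι (𝟙 _) (𝟙 S) (Category.comp_id _) ((Category.comp_id _).trans (Category.id_comp _).symm)
    exact Scheme.Hom.injective _
  have hv : Function.Injective ⇑(pullback.map p (j ≫ x) p x (𝟙 X) j (𝟙 S) ((Category.comp_id _).trans (Category.id_comp _).symm) (Category.comp_id _)) := by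
    haveI := mono_pullback_map p (j ≫ x) p x (𝟙 X) j (𝟙 S) ((Category.comp_id _).trans (Category.id_comp _).symm) (Category.comp_id _)
    exact Scheme.Hom.injective _
  exact flatClosure_abstract _ _ _ _ (pullback.snd (ι ≫ p) (j ≫ x)) (pullback.snd (ι ≫ p) x) j sq
    hcomm ha hb hv ϖ hrange hunit t

theorem S13744_main {X S Z : Scheme.{u}} (p : X ⟶ S) (ι : Z ⟶ X) [IsClosedImmersion ι]
    (R : Type u) [CommRing R] [IsDomain R] [IsDiscreteValuationRing R]
    (x : Spec (CommRingCat.of R) ⟶ S) (t : ↥(pullback p x)) :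
    Cyc.subschemeFun (fun _ => (0 : ℤ)) 0 ((pullback.map (ι ≫ p) (Spec.map (CommRingCat.ofHom (algebraMap R (FractionRing R))) ≫ x) (ι ≫ p) x (𝟙 Z) (Spec.map (CommRingCat.ofHom (algebraMap R (FractionRing R)))) (𝟙 S) ((Category.comp_id _).trans (Category.id_comp _).symm) (Category.comp_id _)).ker.subschemeι ≫ pullback.map (ι ≫ p) x p x ι (𝟙 _) (𝟙 S) (Category.comp_id _) ((Category.comp_id _).trans (Category.id_comp _).symm)) t = ∑ᶠ t' ∈ {t' : ↥(pullback p (Spec.map (CommRingCat.ofHom (algebraMap R (FractionRing R))) ≫ x)) | (pullback.map p (Spec.map (CommRingCat.ofHom (algebraMap R (FractionRing R))) ≫ x) p x (𝟙 X) (Spec.map (CommRingCat.ofHom (algebraMap R (FractionRing R)))) (𝟙 S) ((Category.comp_id _).trans (Category.id_comp _).symm) (Category.comp_id _)) t' = t}, Cyc.subschemeFun (fun _ => (0 : ℤ)) 0 (pullback.map (ι ≫ p) (Spec.map (CommRingCat.ofHom (algebraMap R (FractionRing R))) ≫ x) p (Spec.map (CommRingCat.ofHom (algebraMap R (FractionRing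 R))) ≫ x) ι (𝟙 _) (𝟙 S) (Category.comp_id _) ((Category.comp_id _).trans (Category.id_comp _).symm)) t' := by
  obtain ⟨ϖ, hϖ⟩ := IsDiscreteValuationRing.exists_irreducible R
  haveI hloc : IsLocalization.Away ϖ (FractionRing R) :=
    Groth.Agent.Lib.Helper6.DVRFib.isLocalization_away_of_isFractionRing ϖ hϖ
  haveI hjopen : IsOpenImmersion (Spec.map (CommRingCat.ofHom (algebraMap R (FractionRing R)))) :=
    IsOpenImmersion.of_isLocalization ϖ
  have hrange : ∀ P : Spec (CommRingCat.of R),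
      P ∈ (Spec (CommRingCat.of R)).basicOpen ((Scheme.ΓSpecIso (CommRingCat.of R)).inv ϖ) →
      P ∈ Set.range ⇑(Spec.map (CommRingCat.ofHom (algebraMap R (FractionRing R)))) := by
    intro P hP
    rw [basicOpen_eq_of_affine] at hP
    have h2 : P ∈ Set.range (PrimeSpectrum.comap (algebraMap R (FractionRing R))) := by
      rw [PrimeSpectrum.localization_away_comap_range (FractionRing R) ϖ]
      exact hP
    obtain ⟨y, hy⟩ := h2
    exact ⟨y, hy⟩
  have hinj : Function.Injective (algebraMap R (FractionRing R)) :=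
    IsFractionRing.injective R (FractionRing R)
  have hne : algebraMap R (FractionRing R) ϖ ≠ 0 := (map_ne_zero_iff _ hinj).mpr hϖ.ne_zero
  have hunit : IsUnit ((Spec.map (CommRingCat.ofHom (algebraMap R (FractionRing R)))).appTop
      ((Scheme.ΓSpecIso (CommRingCat.of R)).inv ϖ)) := by
    have hnat := Scheme.ΓSpecIso_inv_naturality (CommRingCat.ofHom (algebraMap R (FractionRing R)))
    have h2 : (Spec.map (CommRingCat.ofHom (algebraMap R (FractionRing R)))).appTop
        ((Scheme.ΓSpecIso (CommRingCat.of R)).inv ϖ) =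
        (Scheme.ΓSpecIso (CommRingCat.of (FractionRing R))).inv
          ((CommRingCat.ofHom (algebraMap R (FractionRing R))) ϖ) := by
      rw [← CommRingCat.comp_apply, ← hnat, CommRingCat.comp_apply]
    rw [h2]
    have h3 : IsUnit ((CommRingCat.ofHom (algebraMap R (FractionRing R))) ϖ) := IsUnit.mk0 _ hne
    exact h3.map (Scheme.ΓSpecIso (CommRingCat.of (FractionRing R))).inv.hom
  exact flatClosure_aux p ι x (Spec.map (CommRingCat.ofHom (algebraMap R (FractionRing R)))) ϖ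
    hrange hunit t

end Groth.Agent.Helper2.FlatClosure
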