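import Mathlib
import Groth.Prelude.Def_Cyc
import Groth.Agent.Lib.Helper4.RegSpread1
import Groth.Agent.Lib.Helper1.DegFin1

/-!
# Flat pull-back of the diagonal along `ψ × id` is the graph of `ψ` (S19419)
(helper2)
-/

set_option autoImplicit false
set_option backward.isDefEq.respectTransparency.types false
set_option synthInstance.maxHeartbeats 400000
set_option maxHeartbeats 4000000
set_option linter.style.haveILetI false
set_option linter.unusedSectionVars false
set_option linter.unusedVariables false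
set_option linter.unusedSimpArgs false
set_option linter.unnecessarySimpa false

universe u
open CategoryTheory CategoryTheory.Limits AlgebraicGeometry TopologicalSpace IsLocalRing

namespace Groth.Agent.Helper2.GraphPull

/-- kernel containment on affine opens, from a cartesian square with a closed immersion at the
bottom -/
theorem ker_app_le_of_isPullback {X₁ X₂ Y' Y : Scheme.{u}} {g : X₁ ⟶ Y'} {ψ : X₁ ⟶ X₂}
    {m : Y' ⟶ Y} {Δ : X₂ ⟶ Y} (hsq : IsPullback g ψ m Δ) [IsClosedImmersion Δ]
    (U : Y.Opens) (hU : IsAffineOpen U) (U' : Y'.Opens) (hU' : IsAffineOpen U')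
    (hle : U' ≤ m ⁻¹ᵁ U) :
    RingHom.ker (g.app U').hom ≤
      Ideal.map (m.appLE U U' hle).hom (RingHom.ker (Δ.app U).hom) := by
  haveI : IsClosedImmersion g :=
    MorphismProperty.of_isPullback (P := @IsClosedImmersion) hsq.flip inferInstance
  obtain ⟨I', hI'⟩ : ∃ I' : Ideal Γ(Y', U'),
      I' = Ideal.map (m.appLE U U' hle).hom (RingHom.ker (Δ.app U).hom) := ⟨_, rfl⟩
  rw [← hI']
  obtain ⟨q, hq⟩ : ∃ q : Γ(Y', U') →+* Γ(Y', U') ⧸ I', q = Ideal.Quotient.mk I' := ⟨_, rfl⟩
  obtain ⟨B, hB⟩ : ∃ B : CommRingCat.{u}, B = CommRingCat.of (Γ(Y', U') ⧸ I') := ⟨_, rfl⟩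
  subst hB
  obtain ⟨q', hq'⟩ : ∃ q' : Γ(Y', U') ⟶ CommRingCat.of (Γ(Y', U') ⧸ I'),
      q' = CommRingCat.ofHom q := ⟨_, rfl⟩
  have hsurj : Function.Surjective (Δ.app U).hom := Δ.app_surjective U hU
  obtain ⟨φ₀, hφ₀def⟩ : ∃ φ₀ : Γ(Y, U) →+* Γ(Y', U') ⧸ I',
      φ₀ = q.comp (m.appLE U U' hle).hom := ⟨_, rfl⟩
  have hφ₀ : RingHom.ker (Δ.app U).hom ≤ RingHom.ker φ₀ := by
    intro a ha
    rw [RingHom.mem_ker, hφ₀def, RingHom.comp_apply, hq, Ideal.Quotient.eq_zero_iff_mem, hI']
    exact Ideal.mem_map_of_mem _ ha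
  obtain ⟨θ, hθdef⟩ : ∃ θ : Γ(X₂, Δ ⁻¹ᵁ U) →+* Γ(Y', U') ⧸ I',
      θ = RingHom.liftOfSurjective (Δ.app U).hom hsurj ⟨φ₀, hφ₀⟩ := ⟨_, rfl⟩
  have hθ : ∀ a, θ ((Δ.app U).hom a) = φ₀ a := by
    intro a
    rw [hθdef]
    exact RingHom.liftOfSurjective_comp_apply (Δ.app U).hom hsurj ⟨φ₀, hφ₀⟩ a
  obtain ⟨θ', hθ'⟩ : ∃ θ' : Γ(X₂, Δ ⁻¹ᵁ U) ⟶ CommRingCat.of (Γ(Y', U') ⧸ I'),
      θ' = CommRingCat.ofHom θ := ⟨_, rfl⟩
  have hW : IsAffineOpen (Δ ⁻¹ᵁ U) := hU.preimage Δ
  have hV : IsAffineOpen (g ⁻¹ᵁ U') := hU'.preimage g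
  have hring : m.appLE U U' hle ≫ q' = Δ.app U ≫ θ' := by
    ext a
    show q'.hom ((m.appLE U U' hle).hom a) = θ'.hom ((Δ.app U).hom a)
    rw [hq', hθ']
    show q ((m.appLE U U' hle).hom a) = θ ((Δ.app U).hom a)
    rw [hθ, hφ₀def]
    rfl
  have hst : (Spec.map q' ≫ hU'.fromSpec) ≫ m = (Spec.map θ' ≫ hW.fromSpec) ≫ Δ := by
    have e1 := IsAffineOpen.SpecMap_appLE_fromSpec m hU hU' hle
    have e2 := IsAffineOpen.SpecMap_appLE_fromSpec Δ hU hW le_rfl
    rw [Scheme.Hom.appLE_eq_app] at e2
    rw [Category.assoc, Category.assoc, ← e1, ← e2, ← Spec.map_comp_assoc,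
      ← Spec.map_comp_assoc, hring]
  obtain ⟨l, hl1⟩ : ∃ l : Spec (CommRingCat.of (Γ(Y', U') ⧸ I')) ⟶ X₁,
      l ≫ g = Spec.map q' ≫ hU'.fromSpec := ⟨hsq.lift _ _ hst, hsq.lift_fst _ _ _⟩
  have hrange : Set.range l ⊆ Set.range hV.fromSpec := by
    rw [hV.range_fromSpec]
    rintro _ ⟨b, rfl⟩
    have h2 : g (l b) = hU'.fromSpec ((Spec.map q') b) := by
      have := congrArg (fun φ : Spec (CommRingCat.of (Γ(Y', U') ⧸ I')) ⟶ Y' => φ b) hl1
      exact this
    have h3 : hU'.fromSpec ((Spec.map q') b) ∈ Set.range hU'.fromSpec := Set.mem_range_self _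
    rw [hU'.range_fromSpec] at h3
    show g (l b) ∈ (U' : Set Y')
    rw [h2]
    exact h3
  obtain ⟨l', hl'⟩ : ∃ l' : Spec (CommRingCat.of (Γ(Y', U') ⧸ I')) ⟶ Spec Γ(X₁, g ⁻¹ᵁ U'),
      l' ≫ hV.fromSpec = l :=
    ⟨IsOpenImmersion.lift hV.fromSpec l hrange, IsOpenImmersion.lift_fac _ _ _⟩
  obtain ⟨lam, hlam⟩ : ∃ lam : Γ(X₁, g ⁻¹ᵁ U') ⟶ CommRingCat.of (Γ(Y', U') ⧸ I'),
      Spec.map lam = l' := ⟨Spec.preimage l', Spec.map_preimage l'⟩
  have key : Spec.map q' ≫ hU'.fromSpec = Spec.map (g.app U' ≫ lam) ≫ hU'.fromSpec := by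
    have h4 := IsAffineOpen.SpecMap_appLE_fromSpec g hU' hV le_rfl
    rw [Scheme.Hom.appLE_eq_app] at h4
    rw [Spec.map_comp, Category.assoc, h4, ← Category.assoc, hlam, hl', hl1]
  have key2 : q' = g.app U' ≫ lam := Spec.map_injective ((cancel_mono hU'.fromSpec).mp key)
  intro a ha
  rw [RingHom.mem_ker] at ha
  have h5 : q'.hom a = (g.app U' ≫ lam).hom a := by rw [← key2]
  have h6 : q a = 0 := by
    have h7 : (g.app U' ≫ lam).hom a = lam.hom ((g.app U').hom a) := rfl
    have h8 : q'.hom a = q a := by rw [hq']; rfl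
    rw [← h8, h5, h7, ha, map_zero]
  rw [hq] at h6
  exact Ideal.Quotient.eq_zero_iff_mem.mp h6

/-- stalk version: the kernel of the stalk map of the pulled-back closed immersion is contained
in the extension of the maximal ideal, at points mapping into the closed subscheme -/
theorem ker_stalkMap_le_of_isPullback {X₁ X₂ Y' Y : Scheme.{u}} {g : X₁ ⟶ Y'} {ψ : X₁ ⟶ X₂}
    {m : Y' ⟶ Y} {Δ : X₂ ⟶ Y} (hsq : IsPullback g ψ m Δ) [IsClosedImmersion Δ]
    (x : X₁) (z : X₂) (hz : m (g x) = Δ z) :
    RingHom.ker (g.stalkMap x).hom ≤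
      Ideal.map (m.stalkMap (g x)).hom (maximalIdeal (Y.presheaf.stalk (m (g x)))) := by
  haveI : IsClosedImmersion g :=
    MorphismProperty.of_isPullback (P := @IsClosedImmersion) hsq.flip inferInstance
  obtain ⟨U, hU, hmU, -⟩ := Opens.isBasis_iff_nbhd.mp (Y.isBasis_affineOpens)
    (show m (g x) ∈ (⊤ : Y.Opens) from trivial)
  obtain ⟨U', hU', hxU', hle⟩ := Opens.isBasis_iff_nbhd.mp (Y'.isBasis_affineOpens)
    (show g x ∈ m ⁻¹ᵁ U from hmU)
  have h1 := Groth.Agent.Lib.Helper4.RegSpread1.ker_stalkMap_of_app_surjective g x U' hU' hxU'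
    (hU'.preimage g) (g.app_surjective U' hU')
  rw [h1]
  have h2 := ker_app_le_of_isPullback hsq U hU U' hU' hle
  refine (Ideal.map_mono h2).trans ?_
  rw [Ideal.map_map, Ideal.map_le_iff_le_comap]
  intro a ha
  rw [Ideal.mem_comap, RingHom.comp_apply]
  have h3 : (Y'.presheaf.germ U' (g x) hxU').hom ((m.appLE U U' hle).hom a) =
      (m.stalkMap (g x)).hom ((Y.presheaf.germ U (m (g x)) hmU).hom a) := by
    have e1 : (m.appLE U U' hle).hom a =
        (Y'.presheaf.map (homOfLE hle).op).hom ((m.app U).hom a) := rfl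
    rw [e1]
    have e2 := TopCat.Presheaf.germ_res_apply Y'.presheaf (homOfLE hle) (g x) hxU'
      ((m.app U).hom a)
    have e3 := Scheme.Hom.germ_stalkMap_apply m U (g x) hmU a
    exact e2.trans e3.symm
  rw [h3]
  apply Ideal.mem_map_of_mem
  rw [IsLocalRing.mem_maximalIdeal, mem_nonunits_iff]
  intro hunit
  have h4 : m (g x) ∈ Y.basicOpen a := (Y.mem_basicOpen a (m (g x)) hmU).mpr hunit
  rw [hz] at h4
  have h5 : z ∈ Δ ⁻¹ᵁ (Y.basicOpen a) := h4
  rw [Scheme.preimage_basicOpen] at h5
  rw [RingHom.mem_ker] at ha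
  have h6 : (Δ.app U) a = 0 := ha
  rw [h6, Scheme.basicOpen_zero] at h5
  exact h5

/-- points of a cartesian square -/
theorem exists_preimage_of_isPullback {X₁ X₂ Y' Y : Scheme.{u}} {g : X₁ ⟶ Y'} {ψ : X₁ ⟶ X₂}
    {m : Y' ⟶ Y} {Δ : X₂ ⟶ Y} (hsq : IsPullback g ψ m Δ) (y : Y') (z : X₂) (h : m y = Δ z) :
    ∃ x : X₁, g x = y ∧ ψ x = z := by
  obtain ⟨w, hw1, hw2⟩ := Scheme.Pullback.exists_preimage_pullback (f := m) (g := Δ) y z h
  refine ⟨hsq.isoPullback.inv w, ?_, ?_⟩
  · have := congrArg (fun φ : pullback m Δ ⟶ Y' => φ w) hsq.isoPullback_inv_fst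
    exact this.trans hw1
  · have := congrArg (fun φ : pullback m Δ ⟶ X₂ => φ w) hsq.isoPullback_inv_snd
    exact this.trans hw2

/-- transcendence degree of the residue field extension at `x` for `φ` -/
noncomputable def trdegAt {X S : Scheme.{u}} (x : X) (φ : X ⟶ S) : Cardinal.{u} :=
  @Algebra.trdeg (S.residueField (φ x)) (X.residueField x) _ _ (φ.residueFieldMap x).hom.toAlgebra

theorem trdeg_eq_trdegAt_comp {X Y S : Scheme.{u}} (s : X ⟶ Y) [IsClosedImmersion s]
    (h : Y ⟶ S) (x : X) :
    @Algebra.trdeg (S.residueField (h (s x))) (Y.residueField (s x)) _ _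
      (h.residueFieldMap (s x)).hom.toAlgebra = trdegAt x (s ≫ h) := by
  unfold trdegAt
  letI algL : Algebra (S.residueField (h (s x))) (Y.residueField (s x)) :=
    (h.residueFieldMap (s x)).hom.toAlgebra
  letI algL' : Algebra (S.residueField (h (s x))) (X.residueField x) :=
    ((s ≫ h).residueFieldMap x).hom.toAlgebra
  have hcomp : ∀ c : S.residueField (h (s x)), ((s ≫ h).residueFieldMap x).hom c =
      (s.residueFieldMap x).hom ((h.residueFieldMap (s x)).hom c) := by
    intro c
    rw [Scheme.residueFieldMap_comp]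
    rfl
  have hsurj : Function.Surjective (s.residueFieldMap x).hom := by
    have h1 : Function.Surjective (s.stalkMap x).hom := s.stalkMap_surjective x
    have h2 : Function.Surjective (X.residue x).hom := IsLocalRing.residue_surjective
    have h3 : Function.Surjective ((Y.residue (s x)) ≫ s.residueFieldMap x).hom := by
      rw [Scheme.residue_residueFieldMap]
      exact h2.comp h1
    have h3' : Function.Surjective
        (⇑(s.residueFieldMap x).hom ∘ ⇑(Y.residue (s x)).hom) := h3
    exact Function.Surjective.of_comp h3'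
  have hbij : Function.Bijective (s.residueFieldMap x).hom :=
    ⟨(s.residueFieldMap x).hom.injective, hsurj⟩
  let E₀ : Y.residueField (s x) →ₐ[S.residueField (h (s x))] X.residueField x :=
    { (s.residueFieldMap x).hom with
      commutes' := fun c => (hcomp c).symm }
  exact (AlgEquiv.ofBijective E₀ hbij).trdeg_eq

/-- **S19419** -/
theorem S19419_main (k : Type u) [Field k] [IsAlgClosed k] (X : Scheme.{u})
    (f : X ⟶ Spec (CommRingCat.of k)) [Smooth f] [IsProper f] [IsIntegral X]
    (hdim : topologicalKrullDim ↥X = 1) (ψ : X ⟶ X) (hψ : ψ ≫ f = f) [Flat ψ]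
    (m : pullback f f ⟶ pullback f f)
    (hm₁ : m ≫ pullback.fst f f = pullback.fst f f ≫ ψ)
    (hm₂ : m ≫ pullback.snd f f = pullback.snd f f) (g : X ⟶ pullback f f)
    (hg₁ : g ≫ pullback.fst f f = 𝟙 X) (hg₂ : g ≫ pullback.snd f f = ψ)
    (δ : ↥(pullback f f) → ℤ)
    (hδ : Cyc.DeltaCompat (pullback.fst f f ≫ f) δ (fun _ => 0)) :
    Cyc.pullFun m δ δ 0
        (Set.indicator ({pullback.diagonal f (genericPoint ↥X)} : Set ↥(pullback f f))
          (fun _ => (1 : ℤ))) =
      Set.indicator ({g (genericPoint ↥X)} : Set ↥(pullback f f)) (fun _ => (1 : ℤ)) := by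
  classical
  haveI : IsClosedImmersion (pullback.diagonal f) := inferInstance
  have h₀ : IsPullback (pullback.fst f f) (pullback.snd f f) f f := IsPullback.of_hasPullback f f
  have sq1 : IsPullback m (pullback.fst f f) (pullback.fst f f) ψ := by
    refine IsPullback.of_right ?_ hm₁ h₀.flip
    rw [hm₂, hψ]
    exact h₀.flip
  have hgm : g ≫ m = ψ ≫ pullback.diagonal f := by
    apply pullback.hom_ext
    · rw [Category.assoc, hm₁, ← Category.assoc, hg₁, Category.id_comp, Category.assoc,
        pullback.diagonal_fst, Category.comp_id]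
    · rw [Category.assoc, hm₂, hg₂, Category.assoc, pullback.diagonal_snd, Category.comp_id]
  have sq2 : IsPullback g ψ m (pullback.diagonal f) := by
    refine IsPullback.of_right ?_ hgm sq1.flip
    rw [hg₁, pullback.diagonal_fst]
    exact IsPullback.id_horiz ψ
  haveI : IsClosedImmersion g :=
    MorphismProperty.of_isPullback (P := @IsClosedImmersion) sq2.flip inferInstance
  -- the generic point is fixed
  have hψη : ψ (genericPoint X) = genericPoint X := by
    have h1 : genericPoint X ⤳ ψ (genericPoint X) := genericPoint_specializes _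
    obtain ⟨a, ha1, ha2⟩ := (Flat.generalizingMap (f := ψ)) h1
    have h2 : genericPoint X ⤳ a := genericPoint_specializes _
    have h3 : a = genericPoint X := (ha1.antisymm h2).eq
    rw [h3] at ha2
    exact ha2
  haveI : IsProper ψ := by
    haveI : IsProper (ψ ≫ f) := by rw [hψ]; infer_instance
    exact IsProper.of_comp ψ f
  have hfib : ∀ x : X, ψ x = genericPoint X → x = genericPoint X := fun x hx =>
    Groth.Agent.Helper1.DegFin.eq_genericPoint_of_map_eq ψ hdim.le hdim x hx
  have hmy : m (g (genericPoint X)) = pullback.diagonal f (genericPoint X) := by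
    have h1 := congrArg (fun φ : X ⟶ pullback f f => φ (genericPoint X)) hgm
    have h2 : m (g (genericPoint X)) = pullback.diagonal f (ψ (genericPoint X)) := h1
    rw [h2, hψη]
  funext y
  simp only [Cyc.pullFun]
  by_cases hy : y = g (genericPoint X)
  · subst hy
    -- the dimension condition
    have hδeq : δ (g (genericPoint X)) = δ (m (g (genericPoint X))) + 0 := by
      obtain ⟨n₁, hn₁, hd₁⟩ := hδ (g (genericPoint X))
      obtain ⟨n₂, hn₂, hd₂⟩ := hδ (pullback.diagonal f (genericPoint X))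
      have e1 : (n₁ : Cardinal.{u}) = trdegAt (genericPoint X) (g ≫ pullback.fst f f ≫ f) :=
        hn₁.symm.trans (trdeg_eq_trdegAt_comp g (pullback.fst f f ≫ f) (genericPoint X))
      have e2 : (n₂ : Cardinal.{u}) =
          trdegAt (genericPoint X) (pullback.diagonal f ≫ pullback.fst f f ≫ f) :=
        hn₂.symm.trans
          (trdeg_eq_trdegAt_comp (pullback.diagonal f) (pullback.fst f f ≫ f) (genericPoint X))
      have hgf : g ≫ pullback.fst f f ≫ f = f := by
        rw [← Category.assoc, hg₁, Category.id_comp]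
      have hΔf : pullback.diagonal f ≫ pullback.fst f f ≫ f = f := by
        rw [← Category.assoc, pullback.diagonal_fst, Category.id_comp]
      rw [hgf] at e1
      rw [hΔf] at e2
      have hn : n₁ = n₂ := by exact_mod_cast (e1.trans e2.symm)
      have hd₁' : δ (g (genericPoint X)) = (n₁ : ℤ) := by rw [hd₁]; simp
      have hd₂' : δ (pullback.diagonal f (genericPoint X)) = (n₂ : ℤ) := by rw [hd₂]; simp
      rw [add_zero, congrArg δ hmy, hd₁', hd₂', hn]
    have hR : Set.indicator ({g (genericPoint X)} : Set ↥(pullback f f)) (fun _ => (1 : ℤ))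
        (g (genericPoint X)) = 1 := Set.indicator_of_mem (Set.mem_singleton _) _
    have hind : Set.indicator ({pullback.diagonal f (genericPoint X)} : Set ↥(pullback f f))
        (fun _ => (1 : ℤ)) (m (g (genericPoint X))) = 1 :=
      Set.indicator_of_mem (Set.mem_singleton_iff.mpr hmy) _
    -- the length
    have hle1 := ker_stalkMap_le_of_isPullback sq2 (genericPoint X) (genericPoint X) hmy
    have hle2 : maximalIdeal ((pullback f f).presheaf.stalk (g (genericPoint X))) ≤
        RingHom.ker (g.stalkMap (genericPoint X)).hom := by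
      intro r hr
      rw [RingHom.mem_ker]
      by_contra h0
      have hF : IsField (X.presheaf.stalk (genericPoint X)) :=
        isField_stalk_of_closure_mem_irreducibleComponents X _
          (by simp [irreducibleComponents_eq_singleton])
      obtain ⟨b, hb⟩ := hF.mul_inv_cancel h0
      have hu : IsUnit ((g.stalkMap (genericPoint X)).hom r) := IsUnit.of_mul_eq_one b hb
      have hu' : IsUnit r := (isUnit_map_iff (g.stalkMap (genericPoint X)).hom r).mp hu
      exact (mem_nonunits_iff.mp ((IsLocalRing.mem_maximalIdeal r).mp hr)) hu'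
    have hJle : Ideal.map (m.stalkMap (g (genericPoint X))).hom
        (maximalIdeal ((pullback f f).presheaf.stalk (m (g (genericPoint X))))) ≤
        maximalIdeal ((pullback f f).presheaf.stalk (g (genericPoint X))) := by
      rw [Ideal.map_le_iff_le_comap]
      intro s hs
      rw [Ideal.mem_comap, IsLocalRing.mem_maximalIdeal, mem_nonunits_iff]
      rw [IsLocalRing.mem_maximalIdeal, mem_nonunits_iff] at hs
      intro hu
      exact hs ((isUnit_map_iff (m.stalkMap (g (genericPoint X))).hom s).mp hu)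
    have hJ : Ideal.map (m.stalkMap (g (genericPoint X))).hom
        (maximalIdeal ((pullback f f).presheaf.stalk (m (g (genericPoint X))))) =
        maximalIdeal ((pullback f f).presheaf.stalk (g (genericPoint X))) :=
      le_antisymm hJle (hle2.trans hle1)
    have hlen : Module.length ((pullback f f).presheaf.stalk (g (genericPoint X)))
        ((pullback f f).presheaf.stalk (g (genericPoint X)) ⧸
          Ideal.map (m.stalkMap (g (genericPoint X))).hom
            (maximalIdeal ((pullback f f).presheaf.stalk (m (g (genericPoint X)))))) = 1 := by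
      rw [Module.length_eq_one_iff, isSimpleModule_iff_quot_maximal]
      exact ⟨maximalIdeal _, inferInstance, ⟨Submodule.quotEquivOfEq _ _ hJ⟩⟩
    rw [hR, if_pos hδeq, hind, one_mul, hlen, ENat.toNat_one, Nat.cast_one]
  · have hR : Set.indicator ({g (genericPoint X)} : Set ↥(pullback f f)) (fun _ => (1 : ℤ))
        y = 0 := Set.indicator_of_notMem (fun h => hy (Set.mem_singleton_iff.mp h)) _
    rw [hR]
    split_ifs with hδy
    · have hmy' : m y ≠ pullback.diagonal f (genericPoint X) := by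
        intro hmy'
        obtain ⟨x', hx'1, hx'2⟩ := exists_preimage_of_isPullback sq2 y (genericPoint X) hmy'
        have h1 := hfib x' hx'2
        rw [h1] at hx'1
        exact hy hx'1.symm
      have hind : Set.indicator ({pullback.diagonal f (genericPoint X)} : Set ↥(pullback f f))
          (fun _ => (1 : ℤ)) (m y) = 0 :=
        Set.indicator_of_notMem (fun h => hmy' (Set.mem_singleton_iff.mp h)) _
      rw [hind, zero_mul]
    · rfl

end Groth.Agent.Helper2.GraphPull
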